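import Mathlib
import Cfsg.Agent.Lib.ConjRank.Three

/-!
# Centralisers modulo the centre and class sizes

Tools for groups with given class sizes: a minimal centraliser of a prime power element pins down
the order of the central quotient, and the class sizes descend to the central quotient.
-/

set_option autoImplicit false
set_option linter.unusedSectionVars false
set_option linter.style.haveILetI false

namespace CfsgLib.ClassPSL2

open CfsgLib.ConjRank (C mem_C self_mem_C C_le_pow exists_parts exists_conj_ge index_conj)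

variable {G : Type*} [Group G]

/-- `C x` is minimal among the centralisers of noncentral elements. -/
def MinNC (x : G) : Prop := ∀ y : G, y ∉ Subgroup.center G → C y ≤ C x → C y = C x

theorem C_eq_top {y : G} (hy : y ∈ Subgroup.center G) : C y = ⊤ :=
  eq_top_iff.mpr fun g _ => mem_C.mpr (Subgroup.mem_center_iff.mp hy g)

theorem center_le_C (y : G) : Subgroup.center G ≤ C y := fun z hz =>
  mem_C.mpr (Subgroup.mem_center_iff.mp hz y).symm

theorem notMem_conj {g x : G} (hx : x ∉ Subgroup.center G) : g * x * g⁻¹ ∉ Subgroup.center G := by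
  intro h
  apply hx
  have := (inferInstance : (Subgroup.center G).Normal).conj_mem _ h g⁻¹
  simpa [mul_assoc] using this

variable [Finite G]

theorem MinNC.le_C {x : G} (h : MinNC x) (hx : x ∉ Subgroup.center G) {a : G} (ha : a ∈ C x)
    (hco : (orderOf x).Coprime (orderOf a)) : C x ≤ C a := by
  have hc : Commute x a := (mem_C.mp ha).symm
  obtain ⟨i, hi⟩ : ∃ i : ℕ, (x * a) ^ i = x := by
    obtain ⟨i, hi1, hi2⟩ := Nat.chineseRemainder hco 1 0
    refine ⟨i, ?_⟩
    rw [hc.mul_pow, pow_eq_pow_iff_modEq.mpr hi1, pow_eq_pow_iff_modEq.mpr hi2, pow_zero, pow_one,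
      mul_one]
  have hle : C (x * a) ≤ C x := fun z hz => by
    have := C_le_pow (x * a) i hz
    rwa [hi] at this
  have hne : x * a ∉ Subgroup.center G := fun e => hx (by
    rw [← hi]; exact pow_mem e i)
  intro z hz
  have hz2 : z ∈ C (x * a) := by rw [h _ hne hle]; exact hz
  refine mem_C.mpr ?_
  have h1 := (mem_C.mp hz).inv_right.mul_right (mem_C.mp hz2)
  simpa using h1

theorem card_C_mul (x : G) : Nat.card (C x) * (C x).index = Nat.card G := (C x).card_mul_index

theorem C_eq_of_le {x y : G} (hle : C x ≤ C y) (hidx : (C y).index = (C x).index) : C x = C y := by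
  refine Subgroup.eq_of_le_of_card_ge hle ?_
  have h1 := (C x).card_mul_index
  rw [← (C y).card_mul_index, hidx] at h1
  exact (Nat.eq_of_mul_eq_mul_right (Nat.pos_of_ne_zero Subgroup.index_ne_zero_of_finite) h1).ge

theorem minNC_of_index {x : G}
    (h : ∀ y : G, y ∉ Subgroup.center G → (C x).index ∣ (C y).index → (C y).index = (C x).index) :
    MinNC x := fun y hy hle => C_eq_of_le hle (h y hy (Subgroup.index_dvd_of_le hle)).symm

/-- A prime power element with a given minimal class size. -/
theorem exists_element {r e : ℕ} [Fact r.Prime] {x : G} (hx : x ∉ Subgroup.center G)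
    (hxe : (C x).index = e) (hre : ¬ r ∣ e)
    (hdown : ∀ v : G, v ∉ Subgroup.center G → (C v).index ∣ e → (C v).index = e)
    (hup : ∀ v : G, v ∉ Subgroup.center G → e ∣ (C v).index → (C v).index = e)
    (hr : ∃ y : G, r ∣ (C y).index) :
    ∃ z : G, z ∉ Subgroup.center G ∧ (C z).index = e ∧ ∃ k, orderOf z ∣ r ^ k := by
  obtain ⟨P⟩ : Nonempty (Sylow r G) := inferInstance
  obtain ⟨g, hg⟩ := exists_conj_ge (x := x) (by rwa [hxe]) P
  set x' := g * x * g⁻¹ with hx'
  have hx'e : (C x').index = e := (index_conj g x).trans hxe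
  have hx'n : x' ∉ Subgroup.center G := notMem_conj hx
  obtain ⟨i, j, hij, hjco, k, hik⟩ := exists_parts r x'
  by_cases hj : x' ^ j ∈ Subgroup.center G
  · have hi : x' ^ i ∉ Subgroup.center G := fun hi => hx'n (hij ▸ mul_mem hi hj)
    exact ⟨_, hi, hdown _ hi (hx'e ▸ Subgroup.index_dvd_of_le (C_le_pow x' i)), k, hik⟩
  obtain ⟨v, hvP, hv⟩ : ∃ v ∈ (P : Subgroup G), v ∉ Subgroup.center G := by
    by_contra hall
    push Not at hall
    obtain ⟨y, hy⟩ := hr
    exact P.not_dvd_index (hy.trans (Subgroup.index_dvd_of_le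
      (le_trans (fun w hw => hall w hw) (center_le_C y))))
  obtain ⟨l, hl⟩ := IsPGroup.iff_orderOf.mp P.2 ⟨v, hvP⟩
  rw [Subgroup.orderOf_mk] at hl
  have hje : (C (x' ^ j)).index = e := hdown _ hj (hx'e ▸ Subgroup.index_dvd_of_le (C_le_pow x' j))
  have hle : C (x' ^ j) ≤ C v := (minNC_of_index (x := x' ^ j) fun y hy h => by
    rw [hje] at h ⊢; exact hup y hy h).le_C hj (C_le_pow x' j (hg hvP)) (by
      rw [hl]; exact hjco.pow_right l)
  exact ⟨v, hv, hdown v hv (hje ▸ Subgroup.index_dvd_of_le hle), l, dvd_of_eq hl⟩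

/-- In the centraliser of a suitable prime power element the elements of another prime order are
central, which gives the corresponding part of the order of the central quotient. -/
theorem part {s r : ℕ} [Fact s.Prime] [Fact r.Prime] (hrs : r ≠ s) {z y : G}
    (hz : z ∉ Subgroup.center G) (hzs : ∃ k, orderOf z ∣ s ^ k) (hmin : MinNC z)
    (hdown : ∀ v : G, v ∉ Subgroup.center G → (C v).index ∣ (C z).index →
      (C v).index = (C z).index)
    (hy : y ∉ Subgroup.center G) (hry : ¬ r ∣ (C y).index) (hzy : ¬ (C z).index ∣ (C y).index) :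
    (Subgroup.center G).index.factorization r = (C z).index.factorization r := by
  obtain ⟨k, hk⟩ := hzs
  have hcop : ∀ {v : G} {l : ℕ}, orderOf v ∣ r ^ l → (orderOf z).Coprime (orderOf v) := fun hv =>
    (((Nat.coprime_primes Fact.out Fact.out).mpr (Ne.symm hrs)).pow _ _).coprime_dvd_left hk
      |>.coprime_dvd_right hv
  have key : ∀ v ∈ C z, (∃ l, orderOf v ∣ r ^ l) → v ∈ Subgroup.center G := by
    rintro v hv ⟨l, hl⟩
    by_contra hvn
    have hle : C z ≤ C v := hmin.le_C hz hv (hcop hl)
    have heq : C z = C v := C_eq_of_le hle (hdown v hvn (Subgroup.index_dvd_of_le hle))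
    have hminv : MinNC v := fun w hw hle' => by
      rw [← heq] at hle' ⊢; exact hmin w hw hle'
    have hvp : IsPGroup r (Subgroup.zpowers v) := by
      obtain ⟨m, -, hm⟩ := (Nat.dvd_prime_pow Fact.out).mp hl
      exact IsPGroup.of_card (n := m) (by rw [Nat.card_zpowers, hm])
    obtain ⟨P, hP⟩ := hvp.exists_le_sylow
    obtain ⟨g, hg⟩ := exists_conj_ge hry P
    set y' := g * y * g⁻¹ with hy'
    have hy'n : y' ∉ Subgroup.center G := notMem_conj hy
    have hyv : y' ∈ C v := mem_C.mpr (mem_C.mp (hg (hP (Subgroup.mem_zpowers v)))).symm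
    have hbad : ∀ j : ℕ, y' ^ j ∉ Subgroup.center G → C z ≤ C (y' ^ j) → False := by
      intro j hj hle'
      apply hzy
      rw [← hdown _ hj (Subgroup.index_dvd_of_le hle'), ← index_conj g y]
      exact Subgroup.index_dvd_of_le (C_le_pow y' j)
    obtain ⟨i, j, hij, hjco, m, him⟩ := exists_parts s y'
    by_cases hj : y' ^ j ∈ Subgroup.center G
    · have hi : y' ^ i ∉ Subgroup.center G := fun hi => hy'n (hij ▸ mul_mem hi hj)
      refine hbad i hi (heq ▸ hminv.le_C hvn (pow_mem hyv i) ?_)
      exact (((Nat.coprime_primes Fact.out Fact.out).mpr hrs).pow l m).coprime_dvd_left hl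
        |>.coprime_dvd_right him
    · exact hbad j hj (hmin.le_C hz (heq ▸ pow_mem hyv j)
        ((hjco.symm.pow_left k).coprime_dvd_left hk))
  obtain ⟨P⟩ : Nonempty (Sylow r (C z)) := inferInstance
  have hPZ : (P : Subgroup (C z)).map (C z).subtype ≤ Subgroup.center G := by
    rintro _ ⟨v, hv, rfl⟩
    obtain ⟨l, hl⟩ := IsPGroup.iff_orderOf.mp P.2 ⟨v, hv⟩
    refine key v v.2 ⟨l, ?_⟩
    rw [← hl, Subgroup.orderOf_mk]
    exact (dvd_of_eq (Subgroup.orderOf_coe v))
  have h1 : (Nat.card (C z)).factorization r ≤ (Nat.card (Subgroup.center G)).factorization r := by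
    refine (Nat.Prime.pow_dvd_iff_le_factorization Fact.out Nat.card_pos.ne').mp ?_
    rw [← P.card_eq_multiplicity, ← Subgroup.card_map_of_injective (C z).subtype_injective]
    exact Subgroup.card_dvd_of_le hPZ
  have h2 := (Nat.factorization_le_iff_dvd Nat.card_pos.ne' Nat.card_pos.ne').mpr
    (Subgroup.card_dvd_of_le (center_le_C z)) r
  have h3 := congrArg (fun t => Nat.factorization t r)
    ((Subgroup.center G).card_mul_index.trans (C z).card_mul_index.symm)
  simp only [Nat.factorization_mul Nat.card_pos.ne' Subgroup.index_ne_zero_of_finite,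
    Finsupp.coe_add, Pi.add_apply] at h3
  omega

/-- The order of an element modulo the centre divides the index of the centre in its
centraliser. -/
theorem orderOf_mk_dvd (v : G) :
    orderOf (v : G ⧸ Subgroup.center G) * (C v).index ∣ (Subgroup.center G).index := by
  have h1 : (Subgroup.center G).relIndex (C v) * (C v).index = (Subgroup.center G).index :=
    Subgroup.relIndex_mul_index (center_le_C v)
  rw [← h1]
  refine Nat.mul_dvd_mul_right (orderOf_dvd_of_pow_eq_one ?_) _
  rw [← QuotientGroup.mk_pow, QuotientGroup.eq_one_iff]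
  exact ((Subgroup.center G).subgroupOf (C v)).pow_index_mem ⟨v, self_mem_C v⟩

/-- Class sizes in the central quotient. -/
theorem exists_index_quot (v : G) : ∃ j : ℕ,
    (C v).index = j * (C (v : G ⧸ Subgroup.center G)).index ∧ j ∣ (C v).index ∧
    (∀ r : ℕ, r.Prime → r ∣ j → r ∣ orderOf (v : G ⧸ Subgroup.center G)) ∧
    (j = 1 → ∀ g : G, Commute (g : G ⧸ Subgroup.center G) v → Commute g v) := by
  set π := QuotientGroup.mk' (Subgroup.center G)
  set D := (C (v : G ⧸ Subgroup.center G)).comap π with hD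
  have hle : C v ≤ D := fun g hg => mem_C.mpr ((mem_C.mp hg).map π)
  set m := orderOf (v : G ⧸ Subgroup.center G) with hm
  have hcom : ∀ g : D, (g : G) * v * (g : G)⁻¹ * v⁻¹ ∈ Subgroup.center G := fun g => by
    rw [← QuotientGroup.eq_one_iff]
    have h : ((g : G) : G ⧸ Subgroup.center G) * (v : G ⧸ Subgroup.center G) =
        (v : G ⧸ Subgroup.center G) * ((g : G) : G ⧸ Subgroup.center G) := (mem_C.mp g.2).eq
    simp [h]
  let φ : D →* Subgroup.center G :=
    { toFun := fun g => ⟨_, hcom g⟩
      map_one' := Subtype.ext (by simp)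
      map_mul' := fun a b => Subtype.ext (by
        show (a : G) * b * v * ((a : G) * b)⁻¹ * v⁻¹ =
          (a : G) * v * (a : G)⁻¹ * v⁻¹ * ((b : G) * v * (b : G)⁻¹ * v⁻¹)
        have hb := Subgroup.mem_center_iff.mp (hcom b) (a : G)
        calc (a : G) * b * v * ((a : G) * b)⁻¹ * v⁻¹
            = (a : G) * ((b : G) * v * (b : G)⁻¹ * v⁻¹) * v * (a : G)⁻¹ * v⁻¹ := by group
          _ = (b : G) * v * (b : G)⁻¹ * v⁻¹ * (a : G) * v * (a : G)⁻¹ * v⁻¹ := by rw [hb]
          _ = ((b : G) * v * (b : G)⁻¹ * v⁻¹) * ((a : G) * v * (a : G)⁻¹ * v⁻¹) := by group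
          _ = _ := (Subgroup.mem_center_iff.mp (hcom b) _).symm) }
  have hker : φ.ker = (C v).subgroupOf D := by
    ext g
    rw [MonoidHom.mem_ker, Subgroup.mem_subgroupOf, mem_C]
    show (⟨_, hcom g⟩ : Subgroup.center G) = 1 ↔ _
    rw [← Subtype.coe_inj]
    show (g : G) * v * (g : G)⁻¹ * v⁻¹ = 1 ↔ _
    rw [mul_inv_eq_one, mul_inv_eq_iff_eq_mul]
    rfl
  have hidx : D.index = (C (v : G ⧸ Subgroup.center G)).index :=
    Subgroup.index_comap_of_surjective _ (QuotientGroup.mk'_surjective _)
  refine ⟨(C v).relIndex D, ?_, ?_, fun r hr hrj => ?_, fun h1 g hg => ?_⟩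
  · rw [← hidx, Subgroup.relIndex_mul_index hle]
  · exact Subgroup.relIndex_dvd_index_of_le hle
  · have := Fact.mk hr
    rw [Subgroup.relIndex, ← hker, Subgroup.index_ker] at hrj
    obtain ⟨w, hw⟩ := exists_prime_orderOf_dvd_card' r hrj
    obtain ⟨g, hg⟩ := MonoidHom.mem_range.mp w.2
    rw [← Subgroup.orderOf_coe, ← hg] at hw
    rw [← hw]
    refine orderOf_dvd_of_pow_eq_one (Subtype.ext ?_)
    show ((g : G) * v * (g : G)⁻¹ * v⁻¹) ^ m = 1
    have hc : Commute ((g : G) * v * (g : G)⁻¹) v⁻¹ := by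
      refine Commute.inv_right ?_
      have h2 := Subgroup.mem_center_iff.mp (hcom g) v
      have e : (g : G) * v * (g : G)⁻¹ = ((g : G) * v * (g : G)⁻¹ * v⁻¹) * v := by group
      rw [e]
      exact (show Commute ((g : G) * v * (g : G)⁻¹ * v⁻¹) v from h2.symm).mul_left (Commute.refl v)
    rw [hc.mul_pow, conj_pow, inv_pow]
    have hvm : v ^ m ∈ Subgroup.center G := by
      rw [← QuotientGroup.eq_one_iff, QuotientGroup.mk_pow, hm, pow_orderOf_eq_one]
    rw [Subgroup.mem_center_iff.mp hvm (g : G), mul_inv_cancel_right, mul_inv_cancel]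
  · exact mem_C.mp (Subgroup.relIndex_eq_one.mp h1 (show g ∈ D from mem_C.mpr hg))

end CfsgLib.ClassPSL2
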