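import Cfsg.Agent.Lib.ClassPSL2.EvenQuot
import Cfsg.Agent.Lib.ConjRank.FGroup
import Cfsg.Agent.Lib.Char.ClassProd
import Cfsg.Agent.Lib.Classical.Card
import Cfsg.Agent.Lib.BrauerTuan.Identify
import Cfsg.Agent.S2507

/-!
# A group with the order and centraliser orders of `PSL(2, q)`, `q` even
-/

set_option autoImplicit false
set_option linter.unusedSectionVars false
set_option linter.style.haveILetI false

namespace CfsgLib.ClassPSL2

open CfsgLib.ConjRank (C mem_C self_mem_C)

/-- A group with the order and the centraliser orders of `PSL(2, q)`, `q` even, is `PSL(2, q)`. -/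
theorem even_iso {Q : Type*} [Group Q] [Finite Q] {q m : ℕ} (hqm : q = 2 ^ m) (hm : 2 ≤ m)
    (hcard : Nat.card Q = q * ((q - 1) * (q + 1)))
    (hC : ∀ x : Q, x ≠ 1 → Nat.card (C x) = q ∨ Nat.card (C x) = q + 1 ∨ Nat.card (C x) = q - 1)
    {F : Type*} [Field F] [Fintype F] (hF : Fintype.card F = q) :
    Nonempty (Q ≃* Matrix.ProjectiveSpecialLinearGroup (Fin 2) F) := by
  classical
  have : Fact (Nat.Prime 2) := ⟨Nat.prime_two⟩
  have hq : 4 ≤ q := hqm ▸ le_trans (by norm_num) (Nat.pow_le_pow_right two_pos hm)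
  have h2q : 2 ∣ q := hqm ▸ dvd_pow_self 2 (by omega)
  have hodd1 : ¬ 2 ∣ (q - 1) := by omega
  have hodd2 : ¬ 2 ∣ (q + 1) := by omega
  have hodd : ¬ 2 ∣ (q - 1) * (q + 1) := fun e => (Nat.prime_two.dvd_mul.mp e).elim hodd1 hodd2
  have hpm : (q - 1).Coprime (q + 1) := by
    refine Nat.coprime_of_dvd fun r hr h1 h3 => ?_
    have h4 : r ∣ 2 := by
      have := Nat.dvd_sub h3 h1
      rwa [show q + 1 - (q - 1) = 2 by omega] at this
    rw [(Nat.prime_dvd_prime_iff_eq hr Nat.prime_two).mp h4] at h1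
    omega
  have hF' : ∀ x y : Q, x ≠ 1 → y ≠ 1 → C x ≤ C y → C x = C y := by
    intro x y hx hy hle
    refine Subgroup.eq_of_le_of_card_ge hle ?_
    have hd := Subgroup.card_dvd_of_le hle
    rcases hC x hx with e | e | e <;> rcases hC y hy with e' | e' | e' <;>
      rw [e, e'] at hd <;> rw [e, e']
    · have := Nat.eq_one_of_dvd_coprimes (coprime_succ_self q) dvd_rfl hd; omega
    · have := Nat.eq_one_of_dvd_coprimes (coprime_pred_self (show 2 ≤ q by omega)) dvd_rfl hd; omega
    · have := Nat.eq_one_of_dvd_coprimes (coprime_succ_self q).symm dvd_rfl hd; omega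
    · have := Nat.eq_one_of_dvd_coprimes hpm.symm dvd_rfl hd; omega
    · have := Nat.eq_one_of_dvd_coprimes (coprime_pred_self (show 2 ≤ q by omega)).symm dvd_rfl hd
      omega
    · have := Nat.eq_one_of_dvd_coprimes hpm dvd_rfl hd; omega
  obtain ⟨T⟩ : Nonempty (Sylow 2 Q) := inferInstance
  have hTc : Nat.card (T : Subgroup Q) = q := by
    rw [T.card_eq_multiplicity, hcard,
      Nat.factorization_mul (by omega) (Nat.mul_ne_zero (by omega) (by omega)), Finsupp.coe_add,
      Pi.add_apply, Nat.factorization_eq_zero_of_not_dvd hodd, add_zero, hqm,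
      Nat.prime_two.factorization_pow, Finsupp.single_eq_same]
  have hev : ∀ x ∈ (T : Subgroup Q), x ≠ 1 → Nat.card (C x) = q := by
    intro x hx hx1
    have h2 : 2 ∣ Nat.card (C x) := by
      obtain ⟨k, hk⟩ := IsPGroup.iff_orderOf.mp T.2 ⟨x, hx⟩
      rw [Subgroup.orderOf_mk] at hk
      rcases k with _ | k
      · exact absurd (orderOf_eq_one_iff.mp hk) hx1
      · exact (hk ▸ dvd_pow_self 2 k.succ_ne_zero).trans
          (Subgroup.orderOf_dvd_natCard _ (self_mem_C x))
    rcases hC x hx1 with e | e | e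
    · exact e
    · exact absurd (e ▸ h2) hodd2
    · exact absurd (e ▸ h2) hodd1
  have hbig : q + 1 < (q - 1) * (q + 1) :=
    lt_of_lt_of_le (show q + 1 < 2 * (q + 1) by omega) (Nat.mul_le_mul_right _ (by omega))
  have hT1 : (T : Subgroup Q) ≠ ⊥ := fun e => by
    rw [e, Subgroup.card_bot] at hTc; omega
  obtain ⟨x₀, hx₀, hx₀1⟩ := Subgroup.bot_or_exists_ne_one (T : Subgroup Q) |>.resolve_left hT1
  have hTn : ¬ (T : Subgroup Q).Normal := by
    intro hn
    have h1 := (C x₀).card_mul_index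
    rw [hev x₀ hx₀ hx₀1, hcard] at h1
    have hidx : (C x₀).index = (q - 1) * (q + 1) := Nat.eq_of_mul_eq_mul_left (by omega) h1
    have : Fintype Q := Fintype.ofFinite Q
    have hle : (C x₀).index ≤ Nat.card (T : Subgroup Q) := by
      rw [← CfsgLib.Char.ClassProd.card_filter_isConj x₀, Nat.card_eq_fintype_card,
        Fintype.card_subtype]
      refine Finset.card_le_card fun y hy => ?_
      simp only [Finset.mem_filter, Finset.mem_univ, true_and] at hy ⊢
      obtain ⟨c, rfl⟩ := isConj_iff.mp hy.symm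
      exact hn.conj_mem x₀ hx₀ c
    omega
  have hTcyc : ¬ IsCyclic (T : Subgroup Q) := by
    intro hc
    have hev2 : 2 ∣ Nat.card Q := hcard ▸ h2q.mul_right _
    have hmin : (Nat.card Q).minFac = 2 := (Nat.minFac_eq_two_iff _).mpr hev2
    have hcompl := IsCyclic.isComplement' hmin hc
    set K := (MonoidHom.transferSylow T (hc.normalizer_le_centralizer hmin)).ker
    have hKc : Nat.card K = (q - 1) * (q + 1) := by
      have h1 := hcompl.card_mul
      rw [hTc, hcard, mul_comm (Nat.card K)] at h1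
      exact Nat.eq_of_mul_eq_mul_left (by omega) h1
    -- an involution of `T`
    obtain ⟨⟨t, ht⟩, hto⟩ := exists_prime_orderOf_dvd_card' 2 (hTc.symm ▸ h2q : 2 ∣ Nat.card (T : Subgroup Q))
    rw [Subgroup.orderOf_mk, orderOf_eq_prime_iff, pow_two] at hto
    have hCt : C t = (T : Subgroup Q) := by
      let := hc.commGroup
      refine (Subgroup.eq_of_le_of_card_ge (fun a ha => mem_C.mpr ?_) ?_).symm
      · exact congrArg Subtype.val (mul_comm (⟨a, ha⟩ : (T : Subgroup Q)) ⟨t, ht⟩)
      · rw [hev t ht hto.2, hTc]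
    let φ : K →* K := (MulAut.conjNormal t : MulAut K).toMonoidHom
    have hfix : MonoidHom.FixedPointFree φ := fun b hb => by
      have hbt : (b : Q) ∈ C t := mem_C.mpr (mul_inv_eq_iff_eq_mul.mp (congrArg Subtype.val hb)).symm
      rw [hCt] at hbt
      exact Subtype.ext (Subgroup.disjoint_def.mp hcompl.disjoint b.2 hbt)
    have hinv : Function.Involutive φ := fun b => Subtype.ext (by
      show t * (t * (b : Q) * t⁻¹) * t⁻¹ = b
      rw [show t * (t * (b : Q) * t⁻¹) * t⁻¹ = t * t * (b : Q) * (t * t)⁻¹ by group, hto.1]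
      group)
    obtain ⟨k, hk, hk1⟩ := Subgroup.bot_or_exists_ne_one K |>.resolve_left (fun e => by
      rw [e, Subgroup.card_bot] at hKc; omega)
    have hle : K ≤ C k := fun a ha => mem_C.mpr
      (congrArg Subtype.val (hfix.commute_all_of_involutive hinv ⟨a, ha⟩ ⟨k, hk⟩).eq)
    have := Nat.le_of_dvd Nat.card_pos (Subgroup.card_dvd_of_le hle)
    rcases hC k hk1 with e | e | e <;> omega
  obtain ⟨F', iF, iF', f, hf, hFc, φ, hφ, hker, -⟩ :=
    CfsgLib.Invol.AIC.isOddCover (CfsgLib.ConjRank.abInvCent hF') T hTcyc hTn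
  have hZ : Subgroup.center Q = ⊥ := by
    refine (Subgroup.eq_bot_iff_forall _).mpr fun z hz => ?_
    by_contra hz1
    have e1 : Nat.card (C z) = Nat.card Q := by rw [C_eq_top hz, Subgroup.card_top]
    have : q + 1 < q * ((q - 1) * (q + 1)) :=
      lt_of_lt_of_le hbig (Nat.le_mul_of_pos_left _ (by omega))
    rcases hC z hz1 with e | e | e <;> omega
  let ψ : Q ≃* Matrix.ProjectiveSpecialLinearGroup (Fin 2) F' := MulEquiv.ofBijective φ
    ⟨(MonoidHom.ker_eq_bot_iff φ).mp (le_bot_iff.mp (hker.trans hZ.le)), hφ⟩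
  have h1 := CfsgLib.Classical.card_PSL_two (F := F')
  rw [← Nat.card_congr ψ.toEquiv, hcard, hFc] at h1
  have hg : Nat.gcd 2 (2 ^ f - 1) = 1 := by
    refine Nat.prime_two.coprime_iff_not_dvd.mpr ?_
    have : 2 ∣ 2 ^ f := dvd_pow_self 2 (by omega)
    have := Nat.one_le_two_pow (n := f)
    omega
  rw [hg, one_mul] at h1
  have hmono : ∀ u v : ℕ, 2 ≤ u → u < v → u * (u ^ 2 - 1) < v * (v ^ 2 - 1) := by
    intro u v hu huv
    have h2 : u ^ 2 ≤ v ^ 2 := Nat.pow_le_pow_left huv.le 2
    have h3 : 4 ≤ u ^ 2 := Nat.pow_le_pow_left hu 2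
    exact Nat.mul_lt_mul_of_lt_of_le huv (by omega) (by omega)
  have hsq : q ^ 2 - 1 = (q - 1) * (q + 1) := by rw [mul_comm, ← Nat.sq_sub_sq, one_pow]
  rw [← hsq] at h1
  have hcard' : Fintype.card F' = Fintype.card F := by
    rw [hF, hFc]
    have h4f : 4 ≤ 2 ^ f := le_trans (by norm_num) (Nat.pow_le_pow_right two_pos hf)
    rcases lt_trichotomy q (2 ^ f) with e | e | e
    · exact absurd h1 (hmono _ _ (by omega) e).ne
    · exact e.symm
    · exact absurd h1 (hmono _ _ (by omega) e).ne'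
  obtain ⟨e'⟩ := CfsgLib.BrauerTuan.psl_congr (F := F') (K := F) hcard'
  exact ⟨ψ.trans e'⟩

/-- The class sizes of `PSL(2, q)`, `q` even, as hypotheses. -/
theorem esizes_of_range {F : Type*} [Field F] [Fintype F] (h2 : 2 ∣ Fintype.card F)
    (h2' : 2 < Fintype.card F) {G : Type*} [Group G]
    (h : Set.range (fun g : G => (Subgroup.centralizer ({g} : Set G)).index) =
      Set.range (fun g : (Matrix.ProjectiveSpecialLinearGroup (Fin 2) F) =>
        (Subgroup.centralizer ({g} : Set (Matrix.ProjectiveSpecialLinearGroup (Fin 2) F))).index)) :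
    ESizes G (Fintype.card F) := by
  set q := Fintype.card F with hq
  obtain ⟨p, hchar⟩ := CharP.exists F
  obtain ⟨⟨f, hf0⟩, hp, hf⟩ := FiniteField.card F p
  rw [← hq] at hf
  have hp2 : p = 2 := ((Nat.prime_dvd_prime_iff_eq Nat.prime_two hp).mp
    (Nat.prime_two.dvd_of_dvd_pow (hf ▸ h2))).symm
  subst hp2
  have hm : 2 ≤ f := by
    by_contra hlt
    have : f = 1 := by omega
    subst this
    simp at hf
    omega
  have h4 : 4 ≤ q := hf ▸ le_trans (by norm_num) (Nat.pow_le_pow_right two_pos hm)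
  have hr := Cfsg.Agent.S2507.result (F := F) h2 h4
  rw [← h] at hr
  have hsq : q ^ 2 - 1 = (q - 1) * (q + 1) := by rw [mul_comm, ← Nat.sq_sub_sq, one_pow]
  rw [← hq, hsq] at hr
  have hone : ∀ x : G, x ∈ Subgroup.center G → (C x).index = 1 := fun x hx => by
    rw [C_eq_top hx, Subgroup.index_top]
  have hex : ∀ e ∈ ({(q - 1) * (q + 1), q * (q - 1), q * (q + 1)} : Set ℕ),
      ∃ x : G, x ∉ Subgroup.center G ∧ (C x).index = e := by
    intro e he
    have hmem : e ∈ Set.range (fun g : G => (Subgroup.centralizer ({g} : Set G)).index) := by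
      rw [hr]
      simp only [Set.mem_insert_iff, Set.mem_singleton_iff] at he ⊢
      tauto
    obtain ⟨x, hx⟩ := hmem
    refine ⟨x, fun hc => ?_, hx⟩
    have h1 : 1 = e := (hone x hc).symm.trans hx
    simp only [Set.mem_insert_iff, Set.mem_singleton_iff] at he
    have : 1 < (q - 1) * (q + 1) := Nat.one_lt_mul_iff.mpr ⟨by omega, by omega, by omega⟩
    have : 1 < q * (q - 1) := Nat.one_lt_mul_iff.mpr ⟨by omega, by omega, by omega⟩
    have : 1 < q * (q + 1) := Nat.one_lt_mul_iff.mpr ⟨by omega, by omega, by omega⟩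
    rcases he with e' | e' | e' <;> omega
  refine ⟨⟨f, hm, hf⟩, fun x hx => ?_, hex _ (by simp), hex _ (by simp), hex _ (by simp)⟩
  have hmem : (C x).index ∈
      Set.range (fun g : G => (Subgroup.centralizer ({g} : Set G)).index) := ⟨x, rfl⟩
  rw [hr] at hmem
  simp only [Set.mem_insert_iff, Set.mem_singleton_iff] at hmem
  rcases hmem with e | e | e | e
  · refine absurd (Subgroup.mem_center_iff.mpr fun g => ?_) hx
    exact mem_C.mp (Subgroup.index_eq_one.mp e ▸ Subgroup.mem_top g)
  · exact Or.inr (Or.inl e)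
  · exact Or.inl e
  · exact Or.inr (Or.inr e)

end CfsgLib.ClassPSL2
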