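import Cfsg.Agent.Lib.ClassPSL2.OddSplit
import Cfsg.Agent.Lib.ClassPSL2.EvenIso
import Cfsg.Agent.Lib.SL2.Solvable

/-!
# Class sizes of `PSL(2, q)` force a direct product with an abelian group
-/

set_option autoImplicit false
set_option linter.style.haveILetI false

namespace CfsgLib.ClassPSL2

open Matrix
open CfsgLib.ConjRank (C)

/-- A group with the class sizes of `PSL(2, q)` is a direct product of `PSL(2, q)` and an abelian
group. -/
theorem direct_product_of_range {F : Type*} [Field F] [Fintype F]
    (hq : (2 ∣ Fintype.card F ∧ 2 < Fintype.card F) ∨ (¬ 2 ∣ Fintype.card F ∧ 7 ≤ Fintype.card F))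
    {G : Type*} [Group G] [Finite G]
    (h : Set.range (fun g : G => (Subgroup.centralizer ({g} : Set G)).index) =
      Set.range (fun g : (Matrix.ProjectiveSpecialLinearGroup (Fin 2) F) =>
        (Subgroup.centralizer ({g} : Set (Matrix.ProjectiveSpecialLinearGroup (Fin 2) F))).index)) :
    ∃ N A : Subgroup G, N.Normal ∧ A ≤ Subgroup.center G ∧ N ⊓ A = ⊥ ∧ N ⊔ A = ⊤ ∧
      Nonempty (N ≃* Matrix.ProjectiveSpecialLinearGroup (Fin 2) F) := by
  have h4 : 4 ≤ Nat.card F := by
    rw [Nat.card_eq_fintype_card]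
    rcases hq with ⟨a, b⟩ | ⟨a, b⟩ <;> omega
  obtain ⟨hs, hns⟩ := CfsgLib.SL2.four_le_card_of_isSimple (K := F) h4
  haveI := hs
  have hne : ¬ IsMulCommutative (ProjectiveSpecialLinearGroup (Fin 2) F) := fun hc =>
    hns (IsSimpleGroup.comm_iff_isSolvable.mp fun a b => mul_comm' a b)
  rcases hq with ⟨h2, h2'⟩ | ⟨hodd, h7⟩
  · have S := esizes_of_range h2 h2' h
    obtain ⟨m, hm, hqm⟩ := S.hpow
    have hcard : Nat.card (G ⧸ Subgroup.center G) =
        Fintype.card F * ((Fintype.card F - 1) * (Fintype.card F + 1)) := by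
      rw [← Subgroup.index_eq_card, S.index_center]
    obtain ⟨e⟩ := even_iso hqm hm hcard (fun x hx => S.card_C_quot hx) (F := F) rfl
    have : Fact (Nat.Prime 2) := ⟨Nat.prime_two⟩
    haveI : CharP F 2 := charP_of_card_eq_prime_pow (f := m) hqm
    set f := e.toMonoidHom.comp (QuotientGroup.mk' (Subgroup.center G)) with hf
    have hfs : Function.Surjective f := e.surjective.comp (QuotientGroup.mk'_surjective _)
    have hker : f.ker = Subgroup.center G := by
      ext x
      rw [MonoidHom.mem_ker, hf, MonoidHom.comp_apply, MulEquiv.coe_toMonoidHom,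
        MulEquiv.map_eq_one_iff]
      exact QuotientGroup.eq_one_iff x
    exact exists_split hne f hfs hker (inf_eq_bot_of_lifting (p := 2) f hfs hker
      (fun r _ _ a _ b hab => S.lift (commute_mk_of_map hker hab))
      (fun hp => absurd rfl hp))
  · obtain ⟨f, hfs, hker, hbot⟩ := split_odd hodd h7 h
    exact exists_split hne f hfs hker hbot

end CfsgLib.ClassPSL2
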