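import Cfsg.Agent.Lib.ClassPSL2.Basic

/-!
# The central quotient of a group with the class sizes of `PSL(2, q)`, `q` even
-/

set_option autoImplicit false
set_option linter.unusedSectionVars false
set_option linter.style.haveILetI false

namespace CfsgLib.ClassPSL2

open CfsgLib.ConjRank (C mem_C self_mem_C)

/-- The class sizes of `PSL(2, q)`, `q` even. -/
structure ESizes (G : Type*) [Group G] (q : ℕ) : Prop where
  hpow : ∃ m : ℕ, 2 ≤ m ∧ q = 2 ^ m
  values : ∀ x : G, x ∉ Subgroup.center G →
    (C x).index = (q - 1) * (q + 1) ∨ (C x).index = q * (q - 1) ∨ (C x).index = q * (q + 1)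
  exA : ∃ x : G, x ∉ Subgroup.center G ∧ (C x).index = (q - 1) * (q + 1)
  exB : ∃ x : G, x ∉ Subgroup.center G ∧ (C x).index = q * (q - 1)
  exC : ∃ x : G, x ∉ Subgroup.center G ∧ (C x).index = q * (q + 1)

theorem coprime_pred_self {q : ℕ} (hq : 2 ≤ q) : q.Coprime (q - 1) := by
  obtain ⟨k, rfl⟩ := Nat.exists_eq_add_of_le hq
  rw [show 2 + k - 1 = 1 + k by omega, show 2 + k = (1 + k) + 1 by omega]
  exact Nat.coprime_self_add_left.mpr (Nat.coprime_one_left _)

theorem coprime_succ_self (q : ℕ) : q.Coprime (q + 1) :=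
  Nat.coprime_self_add_right.mpr (Nat.coprime_one_right q)

section

variable {G : Type*} [Group G] {q : ℕ} (S : ESizes G q)
include S

theorem ESizes.q4 : 4 ≤ q := by
  obtain ⟨m, hm, rfl⟩ := S.hpow
  exact le_trans (by norm_num) (Nat.pow_le_pow_right two_pos hm)

theorem ESizes.even : 2 ∣ q := by
  obtain ⟨m, hm, rfl⟩ := S.hpow
  exact dvd_pow_self 2 (by omega)

theorem ESizes.coprime_pm : (q - 1).Coprime (q + 1) := by
  have hq := S.q4
  have h2 := S.even
  refine Nat.coprime_of_dvd fun r hr h1 h3 => ?_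
  have h4 : r ∣ 2 := by
    have := Nat.dvd_sub h3 h1
    rwa [show q + 1 - (q - 1) = 2 by omega] at this
  rw [(Nat.prime_dvd_prime_iff_eq hr Nat.prime_two).mp h4] at h1
  omega

theorem ESizes.coprime_ab : q.Coprime ((q - 1) * (q + 1)) :=
  Nat.Coprime.mul_right (coprime_pred_self (by have := S.q4; omega)) (coprime_succ_self q)

/-- Sizes dividing one another are equal. -/
theorem ESizes.eq_of_dvd {x y : G} (hx : x ∉ Subgroup.center G) (hy : y ∉ Subgroup.center G)
    (h : (C x).index ∣ (C y).index) : (C x).index = (C y).index := by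
  have hq := S.q4
  have hpm := S.coprime_pm
  have hab := S.coprime_ab
  rcases S.values x hx with e | e | e <;> rcases S.values y hy with e' | e' | e' <;>
    rw [e, e'] at h ⊢
  · exfalso
    have := Nat.eq_one_of_dvd_coprimes hpm.symm dvd_rfl
      ((coprime_succ_self q).symm.dvd_of_dvd_mul_left ((dvd_mul_left _ _).trans h))
    omega
  · exfalso
    have := Nat.eq_one_of_dvd_coprimes hpm dvd_rfl
      ((coprime_pred_self (by omega)).symm.dvd_of_dvd_mul_left ((dvd_mul_right _ _).trans h))
    omega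
  · exfalso
    have := Nat.eq_one_of_dvd_coprimes hab dvd_rfl ((dvd_mul_right _ _).trans h)
    omega
  · exfalso
    have := Nat.eq_one_of_dvd_coprimes hpm dvd_rfl
      (Nat.dvd_of_mul_dvd_mul_left (by omega) h)
    omega
  · exfalso
    have := Nat.eq_one_of_dvd_coprimes hab dvd_rfl ((dvd_mul_right _ _).trans h)
    omega
  · exfalso
    have := Nat.eq_one_of_dvd_coprimes hpm.symm dvd_rfl
      (Nat.dvd_of_mul_dvd_mul_left (by omega) h)
    omega

variable [Finite G]

/-- The order of the central quotient. -/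
theorem ESizes.index_center : (Subgroup.center G).index = q * ((q - 1) * (q + 1)) := by
  have hq := S.q4
  obtain ⟨m, hm, hqm⟩ := S.hpow
  obtain ⟨x, hx, hxA⟩ := S.exA
  obtain ⟨y, hy, hyB⟩ := S.exB
  obtain ⟨w, hw, hwC⟩ := S.exC
  have h2q := S.even
  have hno2 : ¬ 2 ∣ (q - 1) * (q + 1) := fun e => by
    have := Nat.eq_one_of_dvd_coprimes S.coprime_ab h2q e
    omega
  have := Fact.mk Nat.prime_two
  obtain ⟨z, hz, hze, hzp⟩ := exists_element (r := 2) hx hxA hno2
    (fun v hv hd => (S.eq_of_dvd hv hx (hxA ▸ hd)).trans hxA)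
    (fun v hv hd => (S.eq_of_dvd hx hv (hxA ▸ hd)).symm.trans hxA)
    ⟨y, hyB ▸ h2q.mul_right _⟩
  obtain ⟨r₀, hr₀, hr₀d⟩ := Nat.exists_prime_and_dvd (show q + 1 ≠ 1 by omega)
  have := Fact.mk hr₀
  obtain ⟨z', hz', hze', hzs'⟩ := exists_element (r := r₀) hy hyB
    (fun e => by
      rcases hr₀.dvd_mul.mp e with e | e
      · exact hr₀.ne_one (Nat.eq_one_of_dvd_coprimes (coprime_succ_self q) e hr₀d)
      · exact hr₀.ne_one (Nat.eq_one_of_dvd_coprimes S.coprime_pm e hr₀d))
    (fun v hv hd => (S.eq_of_dvd hv hy (hyB ▸ hd)).trans hyB)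
    (fun v hv hd => (S.eq_of_dvd hy hv (hyB ▸ hd)).symm.trans hyB)
    ⟨x, hxA ▸ hr₀d.mul_left _⟩
  have hmin : ∀ v : G, v ∉ Subgroup.center G → MinNC v := fun v hv =>
    minNC_of_index fun u hu hd => (S.eq_of_dvd hv hu hd).symm
  have hnd : ∀ u v : G, u ∉ Subgroup.center G → v ∉ Subgroup.center G →
      (C u).index ≠ (C v).index → ¬ (C u).index ∣ (C v).index :=
    fun u v hu hv hne e => hne (S.eq_of_dvd hu hv e)
  refine Nat.eq_of_factorization_eq Subgroup.index_ne_zero_of_finite
    (Nat.mul_ne_zero (by omega) (Nat.mul_ne_zero (by omega) (by omega))) fun r => ?_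
  by_cases hr : r.Prime
  swap
  · simp [Nat.factorization_eq_zero_of_not_prime _ hr]
  have := Fact.mk hr
  rw [Nat.factorization_mul (by omega) (Nat.mul_ne_zero (by omega) (by omega)), Finsupp.coe_add,
    Pi.add_apply]
  by_cases hr2 : r = 2
  · subst hr2
    have hne : (2 : ℕ) ≠ r₀ := fun e => by
      have h3 : 2 ∣ q + 1 := e ▸ hr₀d
      omega
    rw [part hne hz' hzs' (hmin z' hz') (fun v hv hd => S.eq_of_dvd hv hz' hd) hx (by rwa [hxA])
      (hnd z' x hz' hx (by
        rw [hze', hxA]; intro e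
        exact hno2 (e ▸ h2q.mul_right _))), hze',
      Nat.factorization_eq_zero_of_not_dvd hno2, add_zero, Nat.factorization_mul (by omega) (by omega),
      Finsupp.coe_add, Pi.add_apply,
      Nat.factorization_eq_zero_of_not_dvd (n := q - 1) fun e => hno2 (e.mul_right _), add_zero]
  · have hrq : ¬ r ∣ q := fun e => hr2 ((Nat.prime_dvd_prime_iff_eq hr Nat.prime_two).mp
      (hr.dvd_of_dvd_pow (hqm ▸ e)))
    rw [Nat.factorization_eq_zero_of_not_dvd hrq, zero_add, ← hze]
    have hdA : ∀ v : G, v ∉ Subgroup.center G → (C v).index ∣ (C z).index →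
        (C v).index = (C z).index := fun v hv hd => S.eq_of_dvd hv hz hd
    have hAne : ∀ v : G, v ∉ Subgroup.center G → q ∣ (C v).index → ¬ (C z).index ∣ (C v).index := by
      intro v hv hd
      refine hnd z v hz hv fun e => ?_
      rw [← e, hze] at hd
      have := Nat.eq_one_of_dvd_coprimes S.coprime_ab dvd_rfl hd
      omega
    by_cases hb : r ∣ q - 1
    · refine part hr2 hz hzp (hmin z hz) hdA hw (fun e => ?_) (hAne w hw (hwC ▸ dvd_mul_right _ _))
      rw [hwC] at e
      rcases hr.dvd_mul.mp e with e | e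
      · exact hrq e
      · exact hr.ne_one (Nat.eq_one_of_dvd_coprimes S.coprime_pm hb e)
    · refine part hr2 hz hzp (hmin z hz) hdA hy (fun e => ?_) (hAne y hy (hyB ▸ dvd_mul_right _ _))
      rw [hyB] at e
      rcases hr.dvd_mul.mp e with e | e
      · exact hrq e
      · exact hb e

/-- Class sizes and lifting in the quotient. -/
theorem ESizes.quot {v : G} (hv : v ∉ Subgroup.center G) :
    (C (v : G ⧸ Subgroup.center G)).index = (C v).index ∧
      ∀ g : G, Commute (g : G ⧸ Subgroup.center G) v → Commute g v := by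
  have hq := S.q4
  obtain ⟨j, hj, hjd, hjr, hj1⟩ := exists_index_quot v
  have hone : j = 1 := by
    by_contra hne
    obtain ⟨r, hr, hrj⟩ := Nat.exists_prime_and_dvd hne
    have ho := hjr r hr hrj
    have h1 := orderOf_mk_dvd v
    rw [S.index_center] at h1
    have hd := hrj.trans hjd
    rcases S.values v hv with e | e | e <;> rw [e] at h1 hd
    · have h2 : orderOf (v : G ⧸ Subgroup.center G) ∣ q :=
        (Nat.mul_dvd_mul_iff_right (show 0 < (q - 1) * (q + 1) by
          exact Nat.mul_pos (by omega) (by omega))).mp h1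
      exact hr.ne_one (Nat.eq_one_of_dvd_coprimes S.coprime_ab (ho.trans h2) hd)
    · have h2 : orderOf (v : G ⧸ Subgroup.center G) ∣ q + 1 :=
        (Nat.mul_dvd_mul_iff_right (show 0 < q * (q - 1) from Nat.mul_pos (by omega) (by omega))).mp
          (h1.trans (dvd_of_eq (by ring)))
      rcases hr.dvd_mul.mp hd with hd | hd
      · exact hr.ne_one (Nat.eq_one_of_dvd_coprimes (coprime_succ_self q) hd (ho.trans h2))
      · exact hr.ne_one (Nat.eq_one_of_dvd_coprimes S.coprime_pm hd (ho.trans h2))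
    · have h2 : orderOf (v : G ⧸ Subgroup.center G) ∣ q - 1 :=
        (Nat.mul_dvd_mul_iff_right (show 0 < q * (q + 1) from Nat.mul_pos (by omega) (by omega))).mp
          (h1.trans (dvd_of_eq (by ring)))
      rcases hr.dvd_mul.mp hd with hd | hd
      · exact hr.ne_one (Nat.eq_one_of_dvd_coprimes (coprime_pred_self (by omega)) hd (ho.trans h2))
      · exact hr.ne_one (Nat.eq_one_of_dvd_coprimes S.coprime_pm (ho.trans h2) hd)
  exact ⟨by rw [hj, hone, one_mul], hj1 hone⟩

/-- Commuting modulo the centre is commuting. -/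
theorem ESizes.lift {a b : G} (h : Commute (b : G ⧸ Subgroup.center G) a) : Commute a b := by
  by_cases ha : a ∈ Subgroup.center G
  · exact (Subgroup.mem_center_iff.mp ha b).symm
  · exact ((S.quot ha).2 b h).symm

/-- The centralisers in the quotient. -/
theorem ESizes.card_C_quot {x : G ⧸ Subgroup.center G} (hx : x ≠ 1) :
    Nat.card (C x) = q ∨ Nat.card (C x) = q + 1 ∨ Nat.card (C x) = q - 1 := by
  have hq := S.q4
  obtain ⟨v, rfl⟩ := QuotientGroup.mk_surjective x
  have hv : v ∉ Subgroup.center G := fun e => hx ((QuotientGroup.eq_one_iff v).mpr e)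
  have h1 := (C (v : G ⧸ Subgroup.center G)).card_mul_index
  rw [(S.quot hv).1, ← Subgroup.index_eq_card, S.index_center] at h1
  rcases S.values v hv with e | e | e <;> rw [e] at h1
  · left
    exact Nat.eq_of_mul_eq_mul_right (show 0 < (q - 1) * (q + 1) from Nat.mul_pos (by omega) (by omega)) h1
  · right; left
    exact Nat.eq_of_mul_eq_mul_right (show 0 < q * (q - 1) from Nat.mul_pos (by omega) (by omega))
      (h1.trans (by ring))
  · right; right
    exact Nat.eq_of_mul_eq_mul_right (show 0 < q * (q + 1) from Nat.mul_pos (by omega) (by omega))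
      (h1.trans (by ring))

end

end CfsgLib.ClassPSL2
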