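import Mathlib

/-!
# The arithmetic of `q`, `n = (q ± 1)/2` even and `h = (q ∓ 1)/2` odd
-/

set_option autoImplicit false

namespace CfsgLib.ClassPSL2

/-- `q` a power of the odd prime `p`, `n` the even and `h` the odd number among `(q ± 1)/2`. -/
structure Num (p q n h : ℕ) : Prop where
  hp : p.Prime
  p2 : p ≠ 2
  hpow : ∃ f : ℕ, q = p ^ f
  q7 : 7 ≤ q
  neven : Even n
  rel : (q = 2 * n + 1 ∧ h = n + 1) ∨ (q + 1 = 2 * n ∧ h + 1 = n)

variable {p q n h : ℕ} (N : Num p q n h)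
include N

theorem Num.n4 : 4 ≤ n := by
  obtain ⟨j, hj⟩ := N.neven
  have := N.q7
  rcases N.rel with ⟨a, b⟩ | ⟨a, b⟩ <;> omega

theorem Num.h3 : 3 ≤ h := by
  have := N.n4
  rcases N.rel with ⟨a, b⟩ | ⟨a, b⟩ <;> omega

theorem Num.h_odd : Odd h := by
  obtain ⟨j, hj⟩ := N.neven
  rcases N.rel with ⟨a, b⟩ | ⟨a, b⟩
  · exact ⟨j, by omega⟩
  · exact ⟨j - 1, by have := N.n4; omega⟩

theorem Num.q_odd : Odd q := by
  obtain ⟨f, hf⟩ := N.hpow
  exact hf ▸ (N.hp.odd_of_ne_two N.p2).pow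

theorem Num.p_dvd_q : p ∣ q := by
  obtain ⟨f, hf⟩ := N.hpow
  rcases f with _ | f
  · have := N.q7; simp at hf; omega
  · exact hf ▸ dvd_pow_self p (Nat.succ_ne_zero f)

theorem Num.eq_p {r : ℕ} (hr : r.Prime) (hd : r ∣ q) : r = p := by
  obtain ⟨f, hf⟩ := N.hpow
  exact (Nat.prime_dvd_prime_iff_eq hr N.hp).mp (hr.dvd_of_dvd_pow (hf ▸ hd))

theorem Num.coprime_nh : n.Coprime h := by
  rcases N.rel with ⟨-, e⟩ | ⟨-, e⟩
  · rw [e]; exact Nat.coprime_self_add_right.mpr (Nat.coprime_one_right n)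
  · rw [← e]; exact Nat.coprime_self_add_left.mpr (Nat.coprime_one_left h)

theorem Num.sq : q ^ 2 = 4 * (n * h) + 1 := by
  rcases N.rel with ⟨e, e'⟩ | ⟨e, e'⟩
  · subst e e'; ring
  · have hq : (q : ℤ) = 2 * n - 1 := by omega
    have hh : (h : ℤ) = n - 1 := by omega
    zify
    rw [hq, hh]; ring

theorem Num.coprime_q : q.Coprime (n * h) := by
  refine Nat.coprime_of_dvd' fun r _ h1 h2 => ?_
  have a : r ∣ q ^ 2 := dvd_pow h1 two_ne_zero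
  rw [N.sq] at a
  exact (Nat.dvd_add_right (h2.mul_left 4)).mp a

theorem Num.coprime_qn : q.Coprime n := N.coprime_q.coprime_dvd_right (dvd_mul_right n h)

theorem Num.coprime_qh : q.Coprime h := N.coprime_q.coprime_dvd_right (dvd_mul_left h n)

theorem Num.coprime_2qh : Nat.Coprime 2 (q * h) :=
  Nat.coprime_two_left.mpr (N.q_odd.mul N.h_odd)

/-- A prime misses `q h` or `n h`, and the primes of `q` are `p`. -/
theorem Num.excl {r : ℕ} (hr : r.Prime) :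
    ¬ (r ∣ q ∧ r ∣ n) ∧ ¬ (r ∣ q ∧ r ∣ h) ∧ ¬ (r ∣ n ∧ r ∣ h) ∧ (r ∣ h → r ≠ 2) ∧ (r ∣ q → r ≠ 2) := by
  refine ⟨fun ⟨a, b⟩ => ?_, fun ⟨a, b⟩ => ?_, fun ⟨a, b⟩ => ?_, fun a e => ?_, fun a e => ?_⟩
  · exact hr.ne_one (Nat.eq_one_of_dvd_coprimes N.coprime_qn a b)
  · exact hr.ne_one (Nat.eq_one_of_dvd_coprimes N.coprime_qh a b)
  · exact hr.ne_one (Nat.eq_one_of_dvd_coprimes N.coprime_nh a b)
  · exact Nat.not_even_iff_odd.mpr N.h_odd (even_iff_two_dvd.mpr (e ▸ a))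
  · exact N.p2 ((N.eq_p hr a).symm.trans e)

end CfsgLib.ClassPSL2
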