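import Cfsg.Agent.Lib.ClassPSL2.Basic
import Cfsg.Agent.Lib.ClassPSL2.Num

/-!
# The central quotient of a group with the class sizes of `PSL(2, q)`, `q` odd
-/

set_option autoImplicit false
set_option linter.unusedSectionVars false
set_option linter.style.haveILetI false

namespace CfsgLib.ClassPSL2

open CfsgLib.ConjRank (C mem_C self_mem_C)

/-- The class sizes of `PSL(2, q)`. -/
structure Sizes (G : Type*) [Group G] (p q n h : ℕ) : Prop where
  num : Num p q n h
  values : ∀ x : G, x ∉ Subgroup.center G →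
    (C x).index = 2 * n * h ∨ (C x).index = 2 * q * n ∨
    (C x).index = 2 * q * h ∨ (C x).index = q * h
  exA : ∃ x : G, x ∉ Subgroup.center G ∧ (C x).index = 2 * n * h
  exB : ∃ x : G, x ∉ Subgroup.center G ∧ (C x).index = 2 * q * n
  exD : ∃ x : G, x ∉ Subgroup.center G ∧ (C x).index = q * h

/-- The central quotient: a group of order `2 q n h` with the class sizes of `PSL(2, q)`. -/
structure QData (Q : Type*) [Group Q] (p q n h : ℕ) : Prop where
  num : Num p q n h
  card : Nat.card Q = 2 * q * n * h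
  values : ∀ x : Q, x ≠ 1 →
    (C x).index = 2 * n * h ∨ (C x).index = 2 * q * n ∨
    (C x).index = 2 * q * h ∨ (C x).index = q * h

variable {G : Type*} [Group G] [Finite G] {p q n h : ℕ} (S : Sizes G p q n h)
include S

theorem Sizes.up_down {e : ℕ} (he : e = 2 * n * h ∨ e = 2 * q * n) :
    (∀ v : G, v ∉ Subgroup.center G → (C v).index ∣ e → (C v).index = e) ∧
    (∀ v : G, v ∉ Subgroup.center G → e ∣ (C v).index → (C v).index = e) := by
  have N := S.num
  have hn := N.n4; have hq := N.q7; have hh := N.h3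
  have hpq := N.p_dvd_q
  obtain ⟨r, hr, hrh⟩ := Nat.exists_prime_and_dvd (show h ≠ 1 by omega)
  have key : ¬ 2 * n * h ∣ 2 * q * n ∧ ¬ 2 * q * n ∣ 2 * n * h ∧ ¬ 2 * n * h ∣ 2 * q * h ∧
      ¬ 2 * q * h ∣ 2 * n * h ∧ ¬ 2 * n * h ∣ q * h ∧ ¬ q * h ∣ 2 * n * h ∧
      ¬ 2 * q * n ∣ 2 * q * h ∧ ¬ 2 * q * h ∣ 2 * q * n ∧ ¬ 2 * q * n ∣ q * h ∧
      ¬ q * h ∣ 2 * q * n := by
    have hp2 : ¬ p ∣ 2 := fun e => N.p2 ((Nat.prime_dvd_prime_iff_eq N.hp Nat.prime_two).mp e)
    have hpn : ¬ p ∣ n := fun e => (N.excl N.hp).1 ⟨hpq, e⟩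
    have hph : ¬ p ∣ h := fun e => (N.excl N.hp).2.1 ⟨hpq, e⟩
    have hr2 : ¬ r ∣ 2 := fun e => (N.excl hr).2.2.2.1 hrh
      ((Nat.prime_dvd_prime_iff_eq hr Nat.prime_two).mp e)
    have hrn : ¬ r ∣ n := fun e => (N.excl hr).2.2.1 ⟨e, hrh⟩
    have hrq : ¬ r ∣ q := fun e => (N.excl hr).2.1 ⟨e, hrh⟩
    have h2n : 2 ∣ n := even_iff_two_dvd.mp N.neven
    have h2q : ¬ 2 ∣ q := fun e => Nat.not_even_iff_odd.mpr N.q_odd (even_iff_two_dvd.mpr e)
    have h2h : ¬ 2 ∣ h := fun e => Nat.not_even_iff_odd.mpr N.h_odd (even_iff_two_dvd.mpr e)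
    have hp' := N.hp
    refine ⟨fun e => ?_, fun e => ?_, fun e => ?_, fun e => ?_, fun e => ?_, fun e => ?_, fun e => ?_,
      fun e => ?_, fun e => ?_, fun e => ?_⟩
    · have := (Dvd.dvd.mul_left hrh (2 * n)).trans e
      simp [hr.dvd_mul, hr2, hrn, hrq] at this
    · have := ((hpq.mul_left 2).mul_right n).trans e
      simp [hp'.dvd_mul, hp2, hpn, hph] at this
    · have h4 : 2 * 2 ∣ 2 * (q * h) := by
        rw [← mul_assoc]; exact ((Nat.mul_dvd_mul_left 2 h2n).mul_right h).trans e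
      have := (Nat.mul_dvd_mul_iff_left two_pos).mp h4
      simp [Nat.prime_two.dvd_mul, h2q, h2h] at this
    · have := ((hpq.mul_left 2).mul_right h).trans e
      simp [hp'.dvd_mul, hp2, hpn, hph] at this
    · have := ((dvd_mul_right 2 n).mul_right h).trans e
      simp [Nat.prime_two.dvd_mul, h2q, h2h] at this
    · have := (hpq.mul_right h).trans e
      simp [hp'.dvd_mul, hp2, hpn, hph] at this
    · have h4 : 2 * 2 ∣ 2 * (q * h) := by
        rw [← mul_assoc]
        exact (Nat.mul_dvd_mul (dvd_mul_right 2 q) h2n).trans e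
      have := (Nat.mul_dvd_mul_iff_left two_pos).mp h4
      simp [Nat.prime_two.dvd_mul, h2q, h2h] at this
    · have := (hrh.mul_left (2 * q)).trans e
      simp [hr.dvd_mul, hr2, hrn, hrq] at this
    · have := ((dvd_mul_right 2 q).mul_right n).trans e
      simp [Nat.prime_two.dvd_mul, h2q, h2h] at this
    · have := (hrh.mul_left q).trans e
      simp [hr.dvd_mul, hr2, hrn, hrq] at this
  obtain ⟨k1, k2, k3, k4, k5, k6, k7, k8, k9, k10⟩ := key
  constructor <;> intro v hv hd <;> rcases he with rfl | rfl <;>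
    rcases S.values v hv with e | e | e | e <;> rw [e] at hd ⊢ <;>
    first | rfl | exact absurd hd ‹_›

/-- The order of the central quotient. -/
theorem Sizes.index_center : (Subgroup.center G).index = 2 * q * n * h := by
  have N := S.num
  have hn := N.n4; have hq := N.q7; have hh := N.h3
  obtain ⟨x, hx, hxA⟩ := S.exA
  obtain ⟨y, hy, hyB⟩ := S.exB
  obtain ⟨w, hw, hwD⟩ := S.exD
  obtain ⟨hdA, huA⟩ := S.up_down (Or.inl rfl)
  obtain ⟨hdB, huB⟩ := S.up_down (Or.inr rfl)
  have := Fact.mk N.hp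
  obtain ⟨z, hz, hze, hzp⟩ := exists_element (r := p) hx hxA (fun e => by
    simp only [N.hp.dvd_mul] at e
    rcases e with (e | e) | e
    · exact N.p2 ((Nat.prime_dvd_prime_iff_eq N.hp Nat.prime_two).mp e)
    · exact (N.excl N.hp).1 ⟨N.p_dvd_q, e⟩
    · exact (N.excl N.hp).2.1 ⟨N.p_dvd_q, e⟩) hdA huA
    ⟨y, hyB ▸ (N.p_dvd_q.mul_left 2).mul_right n⟩
  obtain ⟨r₀, hr₀, hr₀h⟩ := Nat.exists_prime_and_dvd (show h ≠ 1 by omega)
  have := Fact.mk hr₀
  obtain ⟨z', hz', hze', hzs'⟩ := exists_element (r := r₀) hy hyB (fun e => by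
    simp only [hr₀.dvd_mul] at e
    rcases e with (e | e) | e
    · exact (N.excl hr₀).2.2.2.1 hr₀h ((Nat.prime_dvd_prime_iff_eq hr₀ Nat.prime_two).mp e)
    · exact (N.excl hr₀).2.1 ⟨e, hr₀h⟩
    · exact (N.excl hr₀).2.2.1 ⟨e, hr₀h⟩) hdB huB
    ⟨x, hxA ▸ hr₀h.mul_left (2 * n)⟩
  have hminz : MinNC z := minNC_of_index fun v hv hd => by rw [hze] at hd ⊢; exact huA v hv hd
  have hminz' : MinNC z' := minNC_of_index fun v hv hd => by rw [hze'] at hd ⊢; exact huB v hv hd
  refine Nat.eq_of_factorization_eq Subgroup.index_ne_zero_of_finite (by positivity) fun r => ?_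
  by_cases hr : r.Prime
  swap
  · simp [Nat.factorization_eq_zero_of_not_prime _ hr]
  have := Fact.mk hr
  have hsplit : (2 * q * n * h).factorization r =
      q.factorization r + (2 * n * h).factorization r := by
    rw [show 2 * q * n * h = q * (2 * n * h) by ring, Nat.factorization_mul (by omega) (by positivity)]
    rfl
  by_cases hrp : r = p
  · subst hrp
    have hpa : ¬ r ∣ 2 * n * h := by
      simp only [hr.dvd_mul]
      rintro ((e | e) | e)
      · exact N.p2 ((Nat.prime_dvd_prime_iff_eq hr Nat.prime_two).mp e)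
      · exact (N.excl hr).1 ⟨N.p_dvd_q, e⟩
      · exact (N.excl hr).2.1 ⟨N.p_dvd_q, e⟩
    have hne : r ≠ r₀ := fun e => (N.excl hr₀).2.1 ⟨e ▸ N.p_dvd_q, hr₀h⟩
    rw [part hne hz' hzs' hminz' (fun v hv hd => by rw [hze'] at hd ⊢; exact hdB v hv hd) hx
      (by rwa [hxA]) (by
        rw [hze', hxA]; intro e
        have := huB x hx (hxA ▸ e)
        rw [hxA] at this
        exact hpa (this ▸ (N.p_dvd_q.mul_left 2).mul_right n)), hze', hsplit,
      Nat.factorization_eq_zero_of_not_dvd hpa, add_zero,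
      show 2 * q * n = q * (2 * n) by ring, Nat.factorization_mul (by omega) (by omega),
      Finsupp.coe_add, Pi.add_apply,
      Nat.factorization_eq_zero_of_not_dvd fun e => hpa (e.mul_right h), add_zero]
  · have hrq : ¬ r ∣ q := fun e => hrp (N.eq_p hr e)
    rw [hsplit, Nat.factorization_eq_zero_of_not_dvd hrq, zero_add, ← hze]
    have hdA' : ∀ v : G, v ∉ Subgroup.center G → (C v).index ∣ (C z).index →
        (C v).index = (C z).index := fun v hv hd => by rw [hze] at hd ⊢; exact hdA v hv hd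
    have hnd : ∀ v : G, v ∉ Subgroup.center G → (C v).index ≠ 2 * n * h →
        ¬ (C z).index ∣ (C v).index := fun v hv hne e => hne (huA v hv (hze ▸ e))
    by_cases hb : r ∣ 2 * q * n
    · refine part hrp hz hzp hminz hdA' hw (fun e => ?_) (hnd w hw fun e => ?_)
      · rw [hwD] at e
        rcases (Nat.Prime.dvd_mul hr).mp e with e | e
        · exact hrq e
        · simp only [hr.dvd_mul] at hb
          rcases hb with (e' | e') | e'
          · exact (N.excl hr).2.2.2.1 e ((Nat.prime_dvd_prime_iff_eq hr Nat.prime_two).mp e')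
          · exact hrq e'
          · exact (N.excl hr).2.2.1 ⟨e', e⟩
      · have := congrArg (fun t => p ∣ t) (hwD.symm.trans e)
        simp only [N.hp.dvd_mul, N.p_dvd_q, true_or, eq_iff_iff, true_iff] at this
        rcases this with (e | e) | e
        · exact N.p2 ((Nat.prime_dvd_prime_iff_eq N.hp Nat.prime_two).mp e)
        · exact (N.excl N.hp).1 ⟨N.p_dvd_q, e⟩
        · exact (N.excl N.hp).2.1 ⟨N.p_dvd_q, e⟩
    · refine part hrp hz hzp hminz hdA' hy (by rwa [hyB]) (hnd y hy fun e => ?_)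
      have := congrArg (fun t => p ∣ t) (hyB.symm.trans e)
      simp only [N.hp.dvd_mul, N.p_dvd_q, or_true, true_or, eq_iff_iff, true_iff] at this
      rcases this with (e | e) | e
      · exact N.p2 ((Nat.prime_dvd_prime_iff_eq N.hp Nat.prime_two).mp e)
      · exact (N.excl N.hp).1 ⟨N.p_dvd_q, e⟩
      · exact (N.excl N.hp).2.1 ⟨N.p_dvd_q, e⟩

/-- The order of an element modulo the centre. -/
theorem Sizes.order_dvd {v : G} :
    ((C v).index = 2 * n * h → orderOf (v : G ⧸ Subgroup.center G) ∣ q) ∧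
    ((C v).index = 2 * q * n → orderOf (v : G ⧸ Subgroup.center G) ∣ h) ∧
    ((C v).index = 2 * q * h → orderOf (v : G ⧸ Subgroup.center G) ∣ n) ∧
    ((C v).index = q * h → orderOf (v : G ⧸ Subgroup.center G) ∣ 2 * n) := by
  have N := S.num
  have hn := N.n4; have hq := N.q7; have hh := N.h3
  have h1 := orderOf_mk_dvd v
  rw [S.index_center] at h1
  refine ⟨fun e => ?_, fun e => ?_, fun e => ?_, fun e => ?_⟩ <;> rw [e] at h1
  · exact (Nat.mul_dvd_mul_iff_right (show 0 < 2 * n * h by positivity)).mp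
      (h1.trans (dvd_of_eq (by ring)))
  · exact (Nat.mul_dvd_mul_iff_right (show 0 < 2 * q * n by positivity)).mp
      (h1.trans (dvd_of_eq (by ring)))
  · exact (Nat.mul_dvd_mul_iff_right (show 0 < 2 * q * h by positivity)).mp
      (h1.trans (dvd_of_eq (by ring)))
  · exact (Nat.mul_dvd_mul_iff_right (show 0 < q * h by positivity)).mp
      (h1.trans (dvd_of_eq (by ring)))

/-- Class sizes in the quotient. -/
theorem Sizes.quot_index {v : G} (hv : v ∉ Subgroup.center G) :
    ((C v).index = 2 * q * h ∧ ((C (v : G ⧸ Subgroup.center G)).index = 2 * q * h ∨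
      (C (v : G ⧸ Subgroup.center G)).index = q * h)) ∨
    ((C (v : G ⧸ Subgroup.center G)).index = (C v).index ∧
      ∀ g : G, Commute (g : G ⧸ Subgroup.center G) v → Commute g v) := by
  have N := S.num
  obtain ⟨j, hj, hjd, hjr, hj1⟩ := exists_index_quot v
  obtain ⟨oA, oB, oC, oD⟩ := S.order_dvd (v := v)
  have hone : ∀ {e m : ℕ}, (C v).index = e → orderOf (v : G ⧸ Subgroup.center G) ∣ m →
      e.Coprime m → ((C (v : G ⧸ Subgroup.center G)).index = (C v).index ∧
        ∀ g : G, Commute (g : G ⧸ Subgroup.center G) v → Commute g v) := by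
    intro e m he ho hco
    have : j = 1 := by
      by_contra hne
      obtain ⟨r, hr, hrj⟩ := Nat.exists_prime_and_dvd hne
      exact hr.ne_one (Nat.eq_one_of_dvd_coprimes hco (he ▸ hrj.trans hjd) ((hjr r hr hrj).trans ho))
    refine ⟨?_, hj1 this⟩
    rw [hj, this, one_mul]
  rcases S.values v hv with e | e | e | e
  · exact Or.inr (hone e (oA e) ((Nat.Coprime.mul_right (Nat.Coprime.mul_right
      (Nat.coprime_two_right.mpr N.q_odd) N.coprime_qn) N.coprime_qh).symm))
  · exact Or.inr (hone e (oB e) (Nat.Coprime.mul_left (Nat.Coprime.mul_left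
      (Nat.coprime_two_left.mpr N.h_odd) N.coprime_qh) N.coprime_nh))
  · refine Or.inl ⟨e, ?_⟩
    have hj2 : j ∣ 2 := by
      refine Nat.Coprime.dvd_of_dvd_mul_right (n := q * h) (k := j) ?_
        (by rw [← mul_assoc]; exact e ▸ hjd)
      refine Nat.coprime_of_dvd fun r hr h1 h2 => ?_
      have hrn := (hjr r hr h1).trans (oC e)
      rcases hr.dvd_mul.mp h2 with h2 | h2
      · exact (N.excl hr).1 ⟨h2, hrn⟩
      · exact (N.excl hr).2.2.1 ⟨hrn, h2⟩
    rw [e] at hj
    rcases (Nat.dvd_prime Nat.prime_two).mp hj2 with rfl | rfl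
    · left; omega
    · right
      rw [mul_assoc 2 q h] at hj
      omega
  · refine Or.inr (hone e (oD e) (Nat.Coprime.mul_right N.coprime_2qh.symm ?_))
    exact Nat.Coprime.mul_left N.coprime_qn N.coprime_nh.symm

/-- The central quotient has the class sizes of `PSL(2, q)`. -/
theorem Sizes.qdata : QData (G ⧸ Subgroup.center G) p q n h := by
  refine ⟨S.num, by rw [← Subgroup.index_eq_card, S.index_center], fun x hx => ?_⟩
  obtain ⟨v, rfl⟩ := QuotientGroup.mk_surjective x
  have hv : v ∉ Subgroup.center G := fun e => hx ((QuotientGroup.eq_one_iff v).mpr e)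
  rcases S.quot_index hv with ⟨-, e | e⟩ | ⟨e, -⟩
  · exact Or.inr (Or.inr (Or.inl e))
  · exact Or.inr (Or.inr (Or.inr e))
  · rw [e]; exact S.values v hv

end CfsgLib.ClassPSL2
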