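import Mathlib
import Cfsg.Agent.Lib.SL2.PSLCensus
import Cfsg.Agent.Lib.SL2.Klein

/-!
# When a central extension of `PSL(2, q)` splits

If commuting modulo the centre implies commuting for enough elements, the centre meets the derived
subgroup trivially.
-/

set_option autoImplicit false
set_option linter.unusedSectionVars false
set_option linter.style.haveILetI false

namespace CfsgLib.ClassPSL2

open Matrix
open scoped MatrixGroups commutatorElement

/-- By transfer, the centre meets the derived subgroup trivially if it does so in every Sylow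
subgroup. -/
theorem commutator_inf_center {G : Type*} [Group G] [Finite G]
    (h : ∀ (r : ℕ), r.Prime → ∀ (P : Sylow r G) (z : (P : Subgroup G)),
      (z : G) ∈ Subgroup.center G → z ∈ commutator (P : Subgroup G) → z = 1) :
    commutator G ⊓ Subgroup.center G = ⊥ := by
  rw [eq_bot_iff]
  rintro z ⟨hz1, hz2⟩
  refine Subgroup.mem_bot.mpr ?_
  by_contra hne
  obtain ⟨r, hr, hrz⟩ := Nat.exists_prime_and_dvd (mt orderOf_eq_one_iff.mp hne)
  have := Fact.mk hr
  set w := z ^ (orderOf z / r)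
  have hwo : orderOf w = r := orderOf_pow_orderOf_div (orderOf_pos z).ne' hrz
  have hwc : w ∈ Subgroup.center G := pow_mem hz2 _
  have hw1 : w ∈ commutator G := pow_mem hz1 _
  obtain ⟨P, hP⟩ := (IsPGroup.of_card (p := r) (n := 1)
    (show Nat.card (Subgroup.zpowers w) = r ^ 1 by
      rw [Nat.card_zpowers, hwo, pow_one])).exists_le_sylow
  have hwP : w ∈ (P : Subgroup G) := hP (Subgroup.mem_zpowers w)
  set ϕ : (P : Subgroup G) →* Abelianization (P : Subgroup G) := Abelianization.of
  have e1 : MonoidHom.transfer ϕ w = 1 :=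
    MonoidHom.mem_ker.mp (Abelianization.commutator_subset_ker (f := MonoidHom.transfer ϕ) hw1)
  rw [MonoidHom.transfer_eq_pow ϕ w fun k g₀ _ => by
    rw [mul_assoc, ← Subgroup.mem_center_iff.mp (pow_mem hwc k) g₀, inv_mul_cancel_left]] at e1
  have e2 := h r hr P _ (pow_mem hwc _) ((Abelianization.ker_of _).le (MonoidHom.mem_ker.mpr e1))
  have e3 : w ^ (P : Subgroup G).index = 1 := congrArg Subtype.val e2
  refine P.not_dvd_index ?_
  have h1 := orderOf_dvd_of_pow_eq_one e3
  rwa [hwo] at h1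

/-- The derived subgroup over an abelian subgroup of index at most two. -/
theorem mem_commutator_of_index_two {P : Type*} [Group P] [Finite P] (K : Subgroup P)
    (hidx : K.index ≤ 2) (hK : ∀ a ∈ K, ∀ b ∈ K, Commute a b) {z : P} (hz : z ∈ commutator P) :
    z = 1 ∨ ∃ k ∈ K, ∃ s, s ∉ K ∧ z = k * s * k⁻¹ * s⁻¹ := by
  have h0 : K.index ≠ 0 := Subgroup.index_ne_zero_of_finite
  rcases (show K.index = 1 ∨ K.index = 2 by omega) with e | e
  · left
    have hall : ∀ a b : P, Commute a b := fun a b =>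
      hK a (Subgroup.index_eq_one.mp e ▸ Subgroup.mem_top a) b
        (Subgroup.index_eq_one.mp e ▸ Subgroup.mem_top b)
    have hle : commutator P ≤ ⊥ := Subgroup.commutator_le.mpr fun a _ b _ =>
      Subgroup.mem_bot.mpr (commutatorElement_eq_one_iff_commute.mpr (hall a b))
    exact Subgroup.mem_bot.mp (hle hz)
  right
  haveI : K.Normal := Subgroup.normal_of_index_eq_two e
  obtain ⟨s, hs⟩ : ∃ s, s ∉ K := by
    by_contra hall
    push Not at hall
    rw [Subgroup.index_eq_one.mpr ((Subgroup.eq_top_iff' K).mpr hall)] at e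
    omega
  have hinK : ∀ g : P, ∀ a ∈ K, g * a * g⁻¹ ∈ K := fun g a ha =>
    (inferInstance : K.Normal).conj_mem a ha g
  let ψ : K →* P :=
    { toFun := fun k => (k : P) * (s * (k : P)⁻¹ * s⁻¹)
      map_one' := by simp
      map_mul' := fun a b => by
        show (a : P) * b * (s * ((a : P) * b)⁻¹ * s⁻¹) =
          (a : P) * (s * (a : P)⁻¹ * s⁻¹) * ((b : P) * (s * (b : P)⁻¹ * s⁻¹))
        have ha := hinK s _ (inv_mem a.2)
        have hb := hinK s _ (inv_mem b.2)
        calc (a : P) * b * (s * ((a : P) * b)⁻¹ * s⁻¹)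
            = (a : P) * b * ((s * (b : P)⁻¹ * s⁻¹) * (s * (a : P)⁻¹ * s⁻¹)) := by group
          _ = (a : P) * b * ((s * (a : P)⁻¹ * s⁻¹) * (s * (b : P)⁻¹ * s⁻¹)) := by
              rw [(hK _ hb _ ha).eq]
          _ = (a : P) * ((b : P) * (s * (a : P)⁻¹ * s⁻¹)) * (s * (b : P)⁻¹ * s⁻¹) := by group
          _ = _ := by rw [(hK _ b.2 _ ha).eq]; group }
  have hle : ψ.range ≤ K := by
    rintro _ ⟨k, rfl⟩
    exact mul_mem k.2 (hinK s _ (inv_mem k.2))
  haveI hN : ψ.range.Normal := ⟨fun x hx g => by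
    obtain ⟨k, rfl⟩ := hx
    by_cases hg : g ∈ K
    · rw [(hK g hg _ (hle ⟨k, rfl⟩)).eq, mul_inv_cancel_right]
      exact ⟨k, rfl⟩
    · have hm : g * s⁻¹ ∈ K := (Subgroup.mul_mem_iff_of_index_two e).mpr
        (iff_of_false hg (fun h => hs (inv_mem_iff.mp h)))
      refine ⟨⟨s * k * s⁻¹, hinK s k k.2⟩, ?_⟩
      have h2 : Commute (g * s⁻¹) (s * ψ k * s⁻¹) := hK _ hm _ (hinK s _ (hle ⟨k, rfl⟩))
      calc ψ ⟨s * k * s⁻¹, hinK s k k.2⟩ = s * (k : P) * s⁻¹ * (s * (s * (k : P) * s⁻¹)⁻¹ * s⁻¹) := rfl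
        _ = s * ψ k * s⁻¹ := by
            show _ = s * ((k : P) * (s * (k : P)⁻¹ * s⁻¹)) * s⁻¹
            group
        _ = g * s⁻¹ * (s * ψ k * s⁻¹) * (g * s⁻¹)⁻¹ := by rw [h2.eq, mul_inv_cancel_right]
        _ = g * ψ k * g⁻¹ := by group⟩
  have hks : ∀ k ∈ K, Commute (k : P ⧸ ψ.range) (s : P ⧸ ψ.range) := by
    intro k hk
    have h1 : ((k * (s * k⁻¹ * s⁻¹) : P) : P ⧸ ψ.range) = 1 :=
      (QuotientGroup.eq_one_iff _).mpr ⟨⟨k, hk⟩, rfl⟩
    rw [← commutatorElement_eq_one_iff_commute]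
    simpa [commutatorElement_def, mul_assoc] using h1
  have hdec : ∀ g : P, ∃ k ∈ K, g = k ∨ g = k * s := by
    intro g
    by_cases hg : g ∈ K
    · exact ⟨g, hg, Or.inl rfl⟩
    · exact ⟨g * s⁻¹, (Subgroup.mul_mem_iff_of_index_two e).mpr
        (iff_of_false hg (fun h => hs (inv_mem_iff.mp h))), Or.inr (inv_mul_cancel_right g s).symm⟩
  have hcomm : ∀ x y : P, Commute (x : P ⧸ ψ.range) (y : P ⧸ ψ.range) := by
    intro x y
    obtain ⟨a, ha, hx⟩ := hdec x
    obtain ⟨b, hb, hy⟩ := hdec y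
    have hab : Commute (a : P ⧸ ψ.range) (b : P ⧸ ψ.range) :=
      (hK a ha b hb).map (QuotientGroup.mk' ψ.range)
    have h1 := hks a ha
    have h2 := hks b hb
    rcases hx with rfl | rfl <;> rcases hy with rfl | rfl <;>
      (try simp only [QuotientGroup.mk_mul])
    · exact hab
    · exact hab.mul_right h1
    · exact hab.mul_left h2.symm
    · exact (hab.mul_left h2.symm).mul_right (h1.mul_left (Commute.refl _))
  have hcle : commutator P ≤ ψ.range := Subgroup.commutator_le.mpr fun x _ y _ => by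
    rw [← QuotientGroup.eq_one_iff]
    show QuotientGroup.mk' ψ.range ⁅x, y⁆ = 1
    rw [map_commutatorElement, commutatorElement_eq_one_iff_commute]
    exact hcomm x y
  obtain ⟨k, hk⟩ := hcle hz
  exact ⟨k, k.2, s, hs, by rw [← hk]; show (k : P) * (s * (k : P)⁻¹ * s⁻¹) = _; group⟩

/-- Elements with powers of one element as images commute. -/
theorem commute_of_map_zpowers {G H : Type*} [Group G] [Group H] {f : G →* H}
    (hker : f.ker ≤ Subgroup.center G) (hf : Function.Surjective f) {a b : G} {c : H}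
    (ha : f a ∈ Subgroup.zpowers c) (hb : f b ∈ Subgroup.zpowers c) : Commute a b := by
  obtain ⟨g, rfl⟩ := hf c
  obtain ⟨i, hi⟩ := ha
  obtain ⟨j, hj⟩ := hb
  have hz : ∀ (x : G) (k : ℤ), f g ^ k = f x → (g ^ k)⁻¹ * x ∈ Subgroup.center G := fun x k hk =>
    hker (by rw [MonoidHom.mem_ker, map_mul, map_inv, map_zpow, hk, inv_mul_cancel])
  have hza := hz a i hi
  have hzb := hz b j hj
  rw [show a = g ^ i * ((g ^ i)⁻¹ * a) by group, show b = g ^ j * ((g ^ j)⁻¹ * b) by group]
  exact ((Commute.zpow_zpow (Commute.refl g) i j).mul_right (Subgroup.mem_center_iff.mp hzb _)).mul_left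
    (Subgroup.mem_center_iff.mp hza _).symm

variable {F : Type*} [Field F] [Finite F]

local notation "PSL" => ProjectiveSpecialLinearGroup (Fin 2) F

open CfsgLib.SL2 in
/-- In a 2-subgroup of `PSL(2, q)`, `q` odd, a cyclic subgroup of index at most two commutes with
outside elements only in involutions. -/
theorem psl_two_subgroup (hodd : Odd (Nat.card F)) (S : Subgroup PSL) (hS : IsPGroup 2 S) :
    ∃ K : Subgroup PSL, IsCyclic K ∧ K.relIndex S ≤ 2 ∧
      ∀ k ∈ K, ∀ s ∈ S, s ∉ K → Commute k s → k * k = 1 := by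
  have : Fact (Nat.Prime 2) := ⟨Nat.prime_two⟩
  have h2 : (2 : F) ≠ 0 := odd_card_two_ne_zero hodd
  by_cases hS1 : S = ⊥
  · refine ⟨⊥, inferInstance, ?_, fun k hk _ _ _ _ => ?_⟩
    · rw [hS1, Subgroup.relIndex_self]; omega
    · rw [Subgroup.mem_bot.mp hk, one_mul]
  haveI : Nontrivial S := (Subgroup.nontrivial_iff_ne_bot S).mpr hS1
  have hcn : Nontrivial (Subgroup.center S) := hS.center_nontrivial
  obtain ⟨m, hm, hcard⟩ := (hS.to_subgroup (Subgroup.center S)).nontrivial_iff_card.mp hcn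
  obtain ⟨⟨t, htc⟩, ht2⟩ := exists_prime_orderOf_dvd_card' 2
    (show 2 ∣ Nat.card (Subgroup.center S) from hcard ▸ dvd_pow_self 2 hm.ne')
  rw [Subgroup.orderOf_mk, ← Subgroup.orderOf_coe, orderOf_eq_prime_iff, pow_two] at ht2
  obtain ⟨g, hg⟩ := proj_surjective (t : PSL)
  have hsq : g * g = -1 := by
    have h1 : g * g ∈ Subgroup.center SL(2, F) := (proj_eq_one_iff _).mp (by rw [map_mul, hg, ht2.1])
    rcases eq_one_or_eq_neg_one_of_mem_center _ h1 with e | e
    · exfalso
      refine ht2.2 ?_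
      rw [← hg, proj_eq_one_iff]
      by_cases h : g = 1
      · rw [h]; exact one_mem _
      · rw [eq_neg_one_of_mul_self h2 e h]; exact neg_one_mem_center
    · exact e
  have htr := trace_eq_zero_of_mul_self h2 hsq
  have hreg := regular_of_mul_self h2 hsq
  set K := (cent g).map proj with hK
  have hcyc : IsCyclic K := (proj_cent_regular hreg).1
  refine ⟨K, hcyc, ?_, ?_⟩
  · have hSN : S ≤ (Subgroup.normalizer (cent g : Set SL(2, F))).map proj := by
      rw [← centralizer_proj_of_trace_eq h2 htr, hg]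
      exact fun s hs => Subgroup.mem_centralizer_singleton_iff.mpr
        (congrArg Subtype.val (Subgroup.mem_center_iff.mp htc ⟨s, hs⟩))
    refine (Subgroup.relIndex_le_of_le_right hSN Subgroup.index_ne_zero_of_finite).trans ?_
    rw [hK, ← Subgroup.relIndex_comap, Subgroup.comap_map_eq, QuotientGroup.ker_mk',
      sup_eq_left.mpr (center_le_cent g), relIndex_cent_normalizer hreg]
  · rintro _ ⟨k, hk, rfl⟩ s hs hsK hc
    by_cases hn : NonScalar (k : Matrix (Fin 2) (Fin 2) F)
    · by_cases hkt : (k : Matrix (Fin 2) (Fin 2) F).trace = 0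
      · rw [← map_mul, proj_eq_one_iff, mul_self_eq_neg_one_of_trace hkt]
        exact neg_one_mem_center
      · exfalso
        refine hsK ?_
        have hs' : s ∈ Subgroup.centralizer ({proj k} : Set PSL) :=
          Subgroup.mem_centralizer_singleton_iff.mpr hc.symm
        rw [centralizer_proj_of_trace_ne (Or.inl hkt), cent_eq_of_mem hreg.nonScalar hn hk] at hs'
        exact hs'
    · rw [(proj_eq_one_iff k).mpr ((mem_center_iff_not_nonScalar k).mpr hn), one_mul]

open CfsgLib.SL2 in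
/-- Two elements of an `r`-subgroup commute if `r` is odd or the characteristic. -/
theorem psl_comm_of_pgroup {p : ℕ} [Fact p.Prime] [CharP F p] {r : ℕ} [Fact r.Prime]
    (hr : r ≠ 2 ∨ r = p) (S : Subgroup PSL) (hS : IsPGroup r S) {a b : PSL} (ha : a ∈ S)
    (hb : b ∈ S) : Commute a b := by
  by_cases hrp : r = p
  · subst hrp
    obtain ⟨k, hk⟩ := exists_conj_mem_upperPSL r hS
    have h := (upperPSL_comm (hk a ha) (hk b hb)).map (MulAut.conj k⁻¹).toMonoidHom
    simpa [mul_assoc] using h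
  have hr2 : r ≠ 2 := hr.resolve_right hrp
  by_cases hS1 : S = ⊥
  · rw [hS1, Subgroup.mem_bot] at ha
    rw [ha]; exact Commute.one_left b
  haveI : Nontrivial S := (Subgroup.nontrivial_iff_ne_bot S).mpr hS1
  have hcn : Nontrivial (Subgroup.center S) := hS.center_nontrivial
  obtain ⟨m, hm, hcard⟩ := (hS.to_subgroup (Subgroup.center S)).nontrivial_iff_card.mp hcn
  obtain ⟨⟨c, hcc⟩, hcr⟩ := exists_prime_orderOf_dvd_card' r
    (show r ∣ Nat.card (Subgroup.center S) from hcard ▸ dvd_pow_self r hm.ne')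
  rw [Subgroup.orderOf_mk, ← Subgroup.orderOf_coe] at hcr
  have hc1 : (c : PSL) ≠ 1 := fun e => (Fact.out : r.Prime).ne_one (by rw [← hcr, e, orderOf_one])
  obtain ⟨g, hg⟩ := proj_surjective (c : PSL)
  have hreg : Regular g := by
    by_contra hn
    have h1 := orderOf_dvd_of_pow_eq_one (proj_pow_char_of_not_regular hn p)
    rw [hg, hcr] at h1
    exact hrp ((Nat.prime_dvd_prime_iff_eq Fact.out Fact.out).mp h1)
  have htr : (g : Matrix (Fin 2) (Fin 2) F).trace ≠ 0 := by
    intro h
    have h1 : (c : PSL) ^ 2 = 1 := by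
      rw [← hg, ← map_pow, proj_eq_one_iff, pow_two, mul_self_eq_neg_one_of_trace h]
      exact neg_one_mem_center
    have h3 := orderOf_dvd_of_pow_eq_one h1
    rw [hcr] at h3
    exact hr2 ((Nat.prime_dvd_prime_iff_eq Fact.out Nat.prime_two).mp h3)
  have hmem : ∀ x ∈ S, x ∈ (cent g).map proj := fun x hx => by
    rw [← centralizer_proj_of_trace_ne (Or.inl htr), hg]
    exact Subgroup.mem_centralizer_singleton_iff.mpr
      (congrArg Subtype.val (Subgroup.mem_center_iff.mp hcc ⟨x, hx⟩))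
  obtain ⟨a', ha', rfl⟩ := hmem a ha
  obtain ⟨b', hb', rfl⟩ := hmem b hb
  exact (show Commute a' b' from cent_comm hreg.nonScalar ha' hb').map proj

/-- The splitting criterion. -/
theorem inf_eq_bot_of_lifting {p : ℕ} [Fact p.Prime] [CharP F p] {G : Type*} [Group G] [Finite G]
    (f : G →* PSL) (hf : Function.Surjective f) (hker : f.ker = Subgroup.center G)
    (hlift : ∀ (r : ℕ), r.Prime → (r ≠ 2 ∨ r = p) → ∀ a : G, (∃ k, orderOf a ∣ r ^ k) →
      ∀ b : G, Commute (f a) (f b) → Commute a b)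
    (hinv : p ≠ 2 → ∀ a : G, f a ≠ 1 → f a * f a = 1 → ∀ b : G, Commute (f a) (f b) → Commute a b) :
    commutator G ⊓ Subgroup.center G = ⊥ := by
  refine commutator_inf_center fun r hr P z hzc hz => ?_
  have := Fact.mk hr
  have hSp : IsPGroup r ((P : Subgroup G).map f) := P.2.map f
  have hpow : ∀ a : (P : Subgroup G), ∃ k, orderOf (a : G) ∣ r ^ k := fun a => by
    obtain ⟨k, hk⟩ := IsPGroup.iff_orderOf.mp P.2 a
    exact ⟨k, dvd_of_eq ((Subgroup.orderOf_coe a).trans hk)⟩
  by_cases hcase : r ≠ 2 ∨ r = p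
  · -- the Sylow subgroup is abelian
    have hall : ∀ a b : (P : Subgroup G), Commute a b := fun a b => Subtype.ext
      (hlift r hr hcase a (hpow a) b (psl_comm_of_pgroup hcase _ hSp
        (Subgroup.mem_map_of_mem f a.2) (Subgroup.mem_map_of_mem f b.2))).eq
    exact Subgroup.mem_bot.mp ((Subgroup.commutator_le.mpr fun a _ b _ => Subgroup.mem_bot.mpr
      (commutatorElement_eq_one_iff_commute.mpr (hall a b)) :
        commutator (P : Subgroup G) ≤ ⊥) hz)
  push Not at hcase
  obtain ⟨rfl, hp⟩ := hcase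
  have hodd : Odd (Nat.card F) := by
    have : Fintype F := Fintype.ofFinite F
    rw [Nat.card_eq_fintype_card]
    exact Nat.odd_iff.mpr (FiniteField.odd_card_of_char_ne_two
      (by rw [ringChar.eq F p]; exact hp.symm))
  obtain ⟨K, hcyc, hidx, hKs⟩ := psl_two_subgroup hodd _ hSp
  set K₂ := (K.comap f).subgroupOf (P : Subgroup G) with hK₂
  have hidx2 : K₂.index ≤ 2 := by
    rw [hK₂, show ((K.comap f).subgroupOf (P : Subgroup G)).index =
      (K.comap f).relIndex (P : Subgroup G) from rfl, Subgroup.relIndex_comap]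
    exact hidx
  obtain ⟨c, hc⟩ := hcyc.exists_generator
  have hK2c : ∀ a ∈ K₂, ∀ b ∈ K₂, Commute a b := by
    intro a ha b hb
    have hz : ∀ x ∈ K₂, f (x : G) ∈ Subgroup.zpowers (c : PSL) := fun x hx => by
      obtain ⟨i, hi⟩ := hc ⟨f (x : G), hx⟩
      exact ⟨i, congrArg Subtype.val hi⟩
    exact Subtype.ext (commute_of_map_zpowers hker.le hf (hz a ha) (hz b hb)).eq
  rcases mem_commutator_of_index_two K₂ hidx2 hK2c hz with e | ⟨k, hk, s, hs, e⟩
  · exact e
  have hfc : Commute (f (k : G)) (f (s : G)) := by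
    have h1 : f (z : G) = 1 := MonoidHom.mem_ker.mp (hker ▸ hzc)
    rw [← commutatorElement_eq_one_iff_commute, commutatorElement_def, ← h1, e]
    simp
  have hks : Commute k s := by
    by_cases hk1 : f (k : G) = 1
    · have hkc : (k : G) ∈ Subgroup.center G := hker ▸ MonoidHom.mem_ker.mpr hk1
      exact Subtype.ext (Subgroup.mem_center_iff.mp hkc (s : G)).symm
    · exact Subtype.ext (hinv hp.symm k hk1
        (hKs _ hk _ (Subgroup.mem_map_of_mem f s.2) hs hfc) s hfc).eq
  rw [e, hks.eq]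
  group

/-- The decomposition. -/
theorem exists_split {G : Type*} [Group G] [Finite G] [IsSimpleGroup PSL]
    (hne : ¬ IsMulCommutative PSL) (f : G →* PSL) (hf : Function.Surjective f)
    (hker : f.ker = Subgroup.center G) (h : commutator G ⊓ Subgroup.center G = ⊥) :
    ∃ N A : Subgroup G, N.Normal ∧ A ≤ Subgroup.center G ∧ N ⊓ A = ⊥ ∧ N ⊔ A = ⊤ ∧
      Nonempty (N ≃* PSL) := by
  refine ⟨commutator G, Subgroup.center G, inferInstance, le_rfl, h, ?_⟩
  have hperf : commutator PSL = ⊤ := by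
    rcases (inferInstance : (commutator PSL).Normal).eq_bot_or_eq_top with e | e
    · exact absurd ⟨⟨fun a b => commutatorElement_eq_one_iff_mul_comm.mp (Subgroup.mem_bot.mp
        (e ▸ Subgroup.commutator_mem_commutator (Subgroup.mem_top a) (Subgroup.mem_top b)))⟩⟩ hne
    · exact e
  have hmap : (commutator G).map f = ⊤ := by
    rw [commutator_def, Subgroup.map_commutator, Subgroup.map_top_of_surjective f hf, ← commutator_def,
      hperf]
  refine ⟨?_, ⟨MulEquiv.ofBijective (f.comp (commutator G).subtype) ⟨?_, ?_⟩⟩⟩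
  · rw [← hker, ← Subgroup.comap_map_eq, hmap, Subgroup.comap_top]
  · refine (MonoidHom.ker_eq_bot_iff _).mp (eq_bot_iff.mpr fun x hx => ?_)
    have : (x : G) ∈ commutator G ⊓ Subgroup.center G := ⟨x.2, hker ▸ hx⟩
    rw [h] at this
    exact Subgroup.mem_bot.mpr (Subtype.ext (Subgroup.mem_bot.mp this))
  · intro y
    obtain ⟨x, hx, e⟩ := (hmap ▸ Subgroup.mem_top y : y ∈ (commutator G).map f)
    exact ⟨⟨x, hx⟩, e⟩

end CfsgLib.ClassPSL2
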