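import Cfsg.Agent.Lib.ClassPSL2.Range
import Cfsg.Agent.Lib.ClassPSL2.Split

/-!
# The derived subgroup complements the centre, `q` odd
-/

set_option autoImplicit false
set_option linter.unusedSectionVars false
set_option linter.style.haveILetI false

namespace CfsgLib.ClassPSL2

open Matrix
open CfsgLib.ConjRank (C mem_C C_conj index_conj)
open scoped MatrixGroups

/-- Commuting modulo the centre implies commuting when the class size is prime to the order. -/
theorem commute_of_coprime {G : Type*} [Group G] [Finite G] {v g : G}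
    (hco : ∀ r : ℕ, r.Prime → r ∣ orderOf (v : G ⧸ Subgroup.center G) → ¬ r ∣ (C v).index)
    (hc : Commute (g : G ⧸ Subgroup.center G) v) : Commute g v := by
  obtain ⟨j, -, hjd, hjr, hj1⟩ := exists_index_quot v
  refine hj1 ?_ g hc
  by_contra hne
  obtain ⟨r, hr, hrj⟩ := Nat.exists_prime_and_dvd hne
  exact hco r hr (hjr r hr hrj) (hrj.trans hjd)

section

variable {F : Type*} [Field F] [Finite F]

local notation "PSL" => ProjectiveSpecialLinearGroup (Fin 2) F

open CfsgLib.SL2 in
/-- An element with the centraliser order of an involution is one. -/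
theorem psl_sq_eq_one {n : ℕ} (hodd : Odd (Nat.card F)) (hq : 7 ≤ Nat.card F) (hn : Even n)
    (hn' : 2 * n = Nat.card F - 1 ∨ 2 * n = Nat.card F + 1) {x : PSL}
    (hx : Nat.card (Subgroup.centralizer ({x} : Set PSL)) = 2 * n) : x * x = 1 := by
  obtain ⟨g, rfl⟩ := proj_surjective x
  by_cases hns : NonScalar (g : Matrix (Fin 2) (Fin 2) F)
  swap
  · rw [(proj_eq_one_iff g).mpr ((mem_center_iff_not_nonScalar g).mpr hns), one_mul]
  by_cases htr : (g : Matrix (Fin 2) (Fin 2) F).trace = 0
  · rw [← map_mul, proj_eq_one_iff, mul_self_eq_neg_one_of_trace htr]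
    exact neg_one_mem_center
  exfalso
  have hgcd : Nat.gcd 2 (Nat.card F - 1) = 2 := Nat.gcd_eq_left (by obtain ⟨j, hj⟩ := hodd; omega)
  rw [centralizer_proj_of_trace_ne (Or.inl htr)] at hx
  have h := card_map_proj (center_le_cent g)
  rw [hx, hgcd] at h
  obtain ⟨j, hj⟩ := hn
  obtain ⟨i, hi⟩ := hodd
  by_cases hreg : Regular g
  · rcases (cent_regular hreg).2 with e | e <;> rw [e] at h <;> omega
  · rw [card_cent_unipotent hns hreg, hgcd] at h
    omega

end

/-- Commuting images commute modulo the kernel. -/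
theorem commute_mk_of_map {G H : Type*} [Group G] [Group H] {f : G →* H}
    (hker : f.ker = Subgroup.center G) {a b : G} (hab : Commute (f a) (f b)) :
    Commute (b : G ⧸ Subgroup.center G) (a : G ⧸ Subgroup.center G) := by
  show (b : G ⧸ Subgroup.center G) * a = a * b
  rw [← QuotientGroup.mk_mul, ← QuotientGroup.mk_mul, QuotientGroup.eq, ← hker, MonoidHom.mem_ker,
    map_mul, map_inv, map_mul, map_mul, hab.eq, inv_mul_cancel]

/-- Isomorphisms preserve the orders of centralisers. -/
theorem card_C_congr {H H' : Type*} [Group H] [Group H'] (e : H ≃* H') (x : H) :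
    Nat.card (C (e x)) = Nat.card (C x) := by
  rw [← Subgroup.card_map_of_injective (K := C x) (f := e.toMonoidHom) e.injective]
  congr 2
  ext y
  rw [Subgroup.mem_map_equiv, mem_C, mem_C]
  refine ⟨fun hy => ?_, fun hy => ?_⟩
  · have := hy.map e.symm.toMonoidHom
    simpa using this
  · have := hy.map e.toMonoidHom
    simpa using this

variable {G : Type*} [Group G] [Finite G] {p q n h : ℕ}

/-- Odd-order (or characteristic) elements lift. -/
theorem Sizes.lift_odd (S : Sizes G p q n h) {r : ℕ} (hr : r.Prime) (hcase : r ≠ 2 ∨ r = p) {a b : G}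
    (ha : ∃ k, orderOf a ∣ r ^ k) (hc : Commute (b : G ⧸ Subgroup.center G) a) : Commute a b := by
  have N := S.num
  refine (commute_of_coprime (fun s hs hso => ?_) hc).symm
  obtain ⟨l, hl⟩ := ha
  have hsr : s = r := (Nat.prime_dvd_prime_iff_eq hs hr).mp (hs.dvd_of_dvd_pow
    (hso.trans ((orderOf_map_dvd (QuotientGroup.mk' (Subgroup.center G)) a).trans hl)))
  subst hsr
  have hr2 : s ≠ 2 := hcase.elim id (fun e' => e' ▸ N.p2)
  have h2 : ¬ s ∣ 2 := fun e' => hr2 ((Nat.prime_dvd_prime_iff_eq hr Nat.prime_two).mp e')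
  have hac : a ∉ Subgroup.center G := fun hc' => by
    rw [(QuotientGroup.eq_one_iff a).mpr hc', orderOf_one] at hso
    exact hs.ne_one (Nat.dvd_one.mp hso)
  obtain ⟨oA, oB, oC, oD⟩ := S.order_dvd (v := a)
  obtain ⟨x1, x2, x3, -, -⟩ := N.excl hr
  rcases S.values a hac with e' | e' | e' | e' <;> rw [e']
  · have hd := hso.trans (oA e')
    simp only [hr.dvd_mul]
    rintro ((e | e) | e)
    exacts [h2 e, x1 ⟨hd, e⟩, x2 ⟨hd, e⟩]
  · have hd := hso.trans (oB e')
    simp only [hr.dvd_mul]
    rintro ((e | e) | e)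
    exacts [h2 e, x2 ⟨e, hd⟩, x3 ⟨e, hd⟩]
  · have hd := hso.trans (oC e')
    simp only [hr.dvd_mul]
    rintro ((e | e) | e)
    exacts [h2 e, x1 ⟨e, hd⟩, x3 ⟨hd, e⟩]
  · have hd := (hr.dvd_mul.mp (hso.trans (oD e'))).resolve_left h2
    simp only [hr.dvd_mul]
    rintro (e | e)
    exacts [x1 ⟨e, hd⟩, x3 ⟨hd, e⟩]

/-- An element with `2n` commuting elements in the quotient. -/
theorem Sizes.exists_involution_lift (S : Sizes G p q n h) :
    ∃ w : G, w ∉ Subgroup.center G ∧ (C w).index = q * h ∧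
      Nat.card (C (w : G ⧸ Subgroup.center G)) = 2 * n := by
  have N := S.num
  have hn4 := N.n4; have hm3 := N.h3; have hq7 := N.q7
  obtain ⟨w, hw, hwD⟩ := S.exD
  have hwq : (C (w : G ⧸ Subgroup.center G)).index = q * h := by
    rcases S.quot_index hw with ⟨e', -⟩ | ⟨e', -⟩
    · rw [hwD] at e'
      nlinarith
    · rw [e', hwD]
  refine ⟨w, hw, hwD, ?_⟩
  have h1 := (C (w : G ⧸ Subgroup.center G)).card_mul_index
  rw [hwq, S.qdata.card] at h1
  exact Nat.eq_of_mul_eq_mul_right (show 0 < q * h by positivity) (h1.trans (by ring))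

open CfsgLib.SL2 in
/-- Involutions lift. -/
theorem Sizes.lift_invol {F : Type*} [Field F] [Finite F] (S : Sizes G p q n h)
    (hF : Nat.card F = q) (e : G ⧸ Subgroup.center G ≃* ProjectiveSpecialLinearGroup (Fin 2) F)
    {f : G →* ProjectiveSpecialLinearGroup (Fin 2) F}
    (hf : ∀ x : G, f x = e (x : G ⧸ Subgroup.center G)) (hfs : Function.Surjective f)
    (hker : f.ker = Subgroup.center G) {a b : G} (ha1 : f a ≠ 1) (ha2 : f a * f a = 1)
    (hab : Commute (f a) (f b)) : Commute a b := by
  have N := S.num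
  have hn4 := N.n4; have hm3 := N.h3; have hq7 := N.q7
  have hoddF : Odd (Nat.card F) := hF ▸ N.q_odd
  obtain ⟨w, hw, hwD, hcard⟩ := S.exists_involution_lift
  have hwinv : Invol (f w) := by
    refine ⟨psl_sq_eq_one hoddF (hF ▸ hq7) N.neven ?_ ?_,
      fun e' => hw (hker ▸ MonoidHom.mem_ker.mpr e')⟩
    · rw [hF]
      rcases N.rel with ⟨e', -⟩ | ⟨e', -⟩ <;> omega
    · rw [hf]
      exact (card_C_congr e _).trans hcard
  obtain ⟨c, hc⟩ := invol_conj hoddF hwinv (⟨ha2, ha1⟩ : Invol (f a))
  obtain ⟨g, rfl⟩ := hfs c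
  -- the class of `a` has the size of the class of `w`
  set z := (g * w * g⁻¹)⁻¹ * a with hz
  have hzc : z ∈ Subgroup.center G := hker ▸ MonoidHom.mem_ker.mpr (by
    rw [hz, map_mul, map_inv, map_mul, map_mul, map_inv, hc, inv_mul_cancel])
  have hCa : C a = C (g * w * g⁻¹) := by
    ext x
    rw [mem_C, mem_C, show a = g * w * g⁻¹ * z by rw [hz, mul_inv_cancel_left]]
    have hxz : Commute x z := Subgroup.mem_center_iff.mp hzc x
    refine ⟨fun h' => ?_, fun h' => h'.mul_right hxz⟩
    have h1 := h'.mul_right hxz.inv_right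
    rwa [mul_inv_cancel_right] at h1
  have haD : (C a).index = q * h := by rw [hCa, index_conj, hwD]
  have hac : a ∉ Subgroup.center G := fun hc' => ha1 (MonoidHom.mem_ker.mp (hker ▸ hc'))
  rcases S.quot_index hac with ⟨e', -⟩ | ⟨-, hl⟩
  · rw [haD] at e'
    nlinarith
  · exact (hl b (commute_mk_of_map hker hab)).symm

/-- The odd case of the decomposition. -/
theorem split_odd {F : Type*} [Field F] [Fintype F]
    (hodd : ¬ 2 ∣ Fintype.card F) (h7 : 7 ≤ Fintype.card F) {G : Type*} [Group G] [Finite G]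
    (h : Set.range (fun g : G => (Subgroup.centralizer ({g} : Set G)).index) =
      Set.range (fun g : (Matrix.ProjectiveSpecialLinearGroup (Fin 2) F) =>
        (Subgroup.centralizer ({g} : Set (Matrix.ProjectiveSpecialLinearGroup (Fin 2) F))).index)) :
    ∃ f : G →* ProjectiveSpecialLinearGroup (Fin 2) F, Function.Surjective f ∧
      f.ker = Subgroup.center G ∧ commutator G ⊓ Subgroup.center G = ⊥ := by
  obtain ⟨p, n, m, S⟩ := sizes_of_range hodd h7 h
  obtain ⟨e⟩ := S.qdata.iso (F := F) rfl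
  have : Fact p.Prime := ⟨S.num.hp⟩
  obtain ⟨k, hk⟩ := S.num.hpow
  haveI : CharP F p := charP_of_card_eq_prime_pow hk
  set f := e.toMonoidHom.comp (QuotientGroup.mk' (Subgroup.center G)) with hf
  have hfs : Function.Surjective f := e.surjective.comp (QuotientGroup.mk'_surjective _)
  have hker : f.ker = Subgroup.center G := by
    ext x
    rw [MonoidHom.mem_ker, hf, MonoidHom.comp_apply, MulEquiv.coe_toMonoidHom,
      MulEquiv.map_eq_one_iff]
    exact QuotientGroup.eq_one_iff x
  exact ⟨f, hfs, hker, inf_eq_bot_of_lifting (p := p) f hfs hker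
    (fun r hr hcase a ha b hab => S.lift_odd hr hcase ha (commute_mk_of_map hker hab))
    (fun _ a ha1 ha2 b hab => S.lift_invol Nat.card_eq_fintype_card e (fun _ => rfl) hfs hker
      ha1 ha2 hab)⟩

end CfsgLib.ClassPSL2
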