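import Cfsg.Agent.Lib.ClassPSL2.OddQuot
import Cfsg.Agent.Lib.Char.ClassProd

/-!
# Counting in a group with the class sizes and the order of `PSL(2, q)`, `q` odd
-/

set_option autoImplicit false
set_option linter.unusedSectionVars false
set_option linter.style.haveILetI false

namespace CfsgLib.ClassPSL2

open CfsgLib.ConjRank (C mem_C self_mem_C C_le_pow exists_parts)
open scoped _root_.Classical

variable {Q : Type*} [Group Q]

/-- The non-identity elements with a given centraliser order. -/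
noncomputable def ofOrder [Fintype Q] (k : ℕ) : Finset Q :=
  Finset.univ.filter fun x => x ≠ 1 ∧ Nat.card (C x) = k

theorem mem_ofOrder [Fintype Q] {k : ℕ} {x : Q} :
    x ∈ ofOrder (Q := Q) k ↔ x ≠ 1 ∧ Nat.card (C x) = k := by
  simp [ofOrder]

theorem index_dvd_card_ofOrder [Fintype Q] {k e : ℕ} (hke : k * e = Nat.card Q) (hk : 0 < k) :
    e ∣ (ofOrder (Q := Q) k).card := by
  rw [Finset.card_eq_sum_card_fiberwise (f := ConjClasses.mk)
    (t := (ofOrder (Q := Q) k).image ConjClasses.mk) (fun x hx => Finset.mem_image_of_mem _ hx)]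
  refine Finset.dvd_sum fun c hc => ?_
  obtain ⟨a, ha, rfl⟩ := Finset.mem_image.mp hc
  have hmem : ∀ x : Q, IsConj x a → x ∈ ofOrder (Q := Q) k := by
    intro x hx
    obtain ⟨g, rfl⟩ := isConj_iff.mp hx.symm
    obtain ⟨ha1, hak⟩ := mem_ofOrder.mp ha
    refine mem_ofOrder.mpr ⟨fun e => ha1 (conj_eq_one_iff.mp e), ?_⟩
    rw [CfsgLib.ConjRank.C_conj, Subgroup.card_map_of_injective (MulAut.conj g).injective, hak]
  have e1 : (ofOrder (Q := Q) k).filter (fun x => ConjClasses.mk x = ConjClasses.mk a) =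
      Finset.univ.filter fun x => IsConj x a := by
    ext x
    simp only [Finset.mem_filter, ConjClasses.mk_eq_mk_iff_isConj, Finset.mem_univ, true_and]
    exact ⟨fun h => h.2, fun h => ⟨hmem x h, h⟩⟩
  rw [e1, CfsgLib.Char.ClassProd.card_filter_isConj]
  have h1 := (C a).card_mul_index
  rw [(mem_ofOrder.mp ha).2, ← hke] at h1
  rw [Nat.eq_of_mul_eq_mul_left hk h1]

variable [Finite Q] {p q n h : ℕ} (D : QData Q p q n h)
include D

/-- The orders of the centralisers. -/
theorem QData.cards {x : Q} (hx : x ≠ 1) :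
    Nat.card (C x) = q ∨ Nat.card (C x) = h ∨ Nat.card (C x) = n ∨ Nat.card (C x) = 2 * n := by
  have N := D.num
  have hn := N.n4; have hq := N.q7; have hh := N.h3
  have h1 := (C x).card_mul_index
  rw [D.card] at h1
  rcases D.values x hx with e | e | e | e <;> rw [e] at h1
  · left
    exact Nat.eq_of_mul_eq_mul_right (show 0 < 2 * n * h by positivity) (h1.trans (by ring))
  · right; left
    exact Nat.eq_of_mul_eq_mul_right (show 0 < 2 * q * n by positivity) (h1.trans (by ring))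
  · right; right; left
    exact Nat.eq_of_mul_eq_mul_right (show 0 < 2 * q * h by positivity) (h1.trans (by ring))
  · right; right; right
    exact Nat.eq_of_mul_eq_mul_right (show 0 < q * h by positivity) (h1.trans (by ring))

/-- A prime of `n` in the centraliser puts an element in one of the last two classes. -/
theorem QData.cd_of_dvd {x : Q} (hx : x ≠ 1) {r : ℕ} (hr : r.Prime) (hrn : r ∣ 2 * n)
    (hrc : r ∣ Nat.card (C x)) : Nat.card (C x) = n ∨ Nat.card (C x) = 2 * n := by
  have N := D.num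
  have hrn' : r ∣ n := by
    rcases hr.dvd_mul.mp hrn with e | e
    · rw [(Nat.prime_dvd_prime_iff_eq hr Nat.prime_two).mp e]; exact even_iff_two_dvd.mp N.neven
    · exact e
  rcases D.cards hx with e | e | e | e
  · exact absurd ⟨e ▸ hrc, hrn'⟩ (N.excl hr).1
  · exact absurd ⟨hrn', e ▸ hrc⟩ (N.excl hr).2.2.1
  · exact Or.inl e
  · exact Or.inr e

theorem QData.cd_of_orderOf {x : Q} {r : ℕ} (hr : r.Prime) (hrn : r ∣ 2 * n) (hrx : r ∣ orderOf x) :
    Nat.card (C x) = n ∨ Nat.card (C x) = 2 * n := by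
  refine D.cd_of_dvd (fun e => ?_) hr hrn (hrx.trans (Subgroup.orderOf_dvd_natCard _ (self_mem_C x)))
  rw [e, orderOf_one] at hrx
  exact hr.ne_one (Nat.dvd_one.mp hrx)

/-- The numbers of elements of each kind. -/
theorem QData.counts [Fintype Q] :
    (ofOrder (Q := Q) q).card = q ^ 2 - 1 ∧
    (ofOrder (Q := Q) n).card + (ofOrder (Q := Q) (2 * n)).card = q * h * (n - 1) := by
  have N := D.num
  have hn := N.n4; have hq := N.q7; have hh := N.h3
  obtain ⟨iA, hA⟩ := index_dvd_card_ofOrder (Q := Q) (k := q) (e := 2 * n * h)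
    (by rw [D.card]; ring) (by omega)
  obtain ⟨iB, hB⟩ := index_dvd_card_ofOrder (Q := Q) (k := h) (e := 2 * q * n)
    (by rw [D.card]; ring) (by omega)
  obtain ⟨iC, hC⟩ := index_dvd_card_ofOrder (Q := Q) (k := n) (e := 2 * q * h)
    (by rw [D.card]; ring) (by omega)
  obtain ⟨iD, hD⟩ := index_dvd_card_ofOrder (Q := Q) (k := 2 * n) (e := q * h)
    (by rw [D.card]; ring) (by omega)
  have htot : 1 + ((ofOrder (Q := Q) q).card + (ofOrder (Q := Q) h).card +
      ((ofOrder (Q := Q) n).card + (ofOrder (Q := Q) (2 * n)).card)) = 2 * q * n * h := by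
    rw [← D.card, Nat.card_eq_fintype_card, ← Finset.card_univ,
      ← Finset.card_erase_add_one (Finset.mem_univ (1 : Q))]
    have hneq : q ≠ h ∧ q ≠ n ∧ q ≠ 2 * n ∧ h ≠ n ∧ h ≠ 2 * n := by
      rcases N.rel with ⟨a, b⟩ | ⟨a, b⟩ <;> refine ⟨?_, ?_, ?_, ?_, ?_⟩ <;> omega
    have e : (Finset.univ : Finset Q).erase 1 = (ofOrder q ∪ ofOrder h) ∪
        (ofOrder n ∪ ofOrder (2 * n)) := by
      ext x
      simp only [Finset.mem_erase, Finset.mem_univ, and_true, Finset.mem_union, mem_ofOrder]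
      constructor
      · intro hx
        rcases D.cards hx with e | e | e | e
        exacts [Or.inl (Or.inl ⟨hx, e⟩), Or.inl (Or.inr ⟨hx, e⟩), Or.inr (Or.inl ⟨hx, e⟩),
          Or.inr (Or.inr ⟨hx, e⟩)]
      · rintro ((⟨a, -⟩ | ⟨a, -⟩) | (⟨a, -⟩ | ⟨a, -⟩)) <;> exact a
    rw [e, Finset.card_union_of_disjoint, Finset.card_union_of_disjoint,
      Finset.card_union_of_disjoint, add_comm]
    · exact Finset.disjoint_left.mpr fun x a b => by
        have := (mem_ofOrder.mp a).2.symm.trans (mem_ofOrder.mp b).2; omega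
    · exact Finset.disjoint_left.mpr fun x a b => by
        have := (mem_ofOrder.mp a).2.symm.trans (mem_ofOrder.mp b).2; omega
    · refine Finset.disjoint_left.mpr fun x a b => ?_
      simp only [Finset.mem_union, mem_ofOrder] at a b
      rcases a with ⟨-, a⟩ | ⟨-, a⟩ <;> rcases b with ⟨-, b⟩ | ⟨-, b⟩ <;> omega
  rw [hA, hB, hC, hD] at htot
  have hsq := N.sq
  have hq2 : ((q : ℤ)) ^ 2 = 4 * (n * h) + 1 := by exact_mod_cast hsq
  have ht : (1 : ℤ) + (2 * n * h * iA + 2 * q * n * iB + (2 * q * h * iC + q * h * iD)) =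
      2 * q * n * h := by exact_mod_cast htot
  obtain ⟨k, hk⟩ : ∃ k : ℤ, (q : ℤ) * n = h * k + 1 := by
    rcases N.rel with ⟨a, b⟩ | ⟨a, b⟩
    · exact ⟨2 * h - 3, by subst a b; push_cast; ring⟩
    · refine ⟨2 * h + 3, ?_⟩
      have hqz : (q : ℤ) = 2 * h + 1 := by omega
      have hnz : (n : ℤ) = h + 1 := by omega
      rw [hqz, hnz]; ring
  -- the congruence modulo `q`
  obtain ⟨a, ha⟩ : (q : ℤ) ∣ (iA : ℤ) - 2 := by
    refine ⟨(q : ℤ) * iA - 4 * n * h + 4 * n * iB + 4 * h * iC + 2 * h * iD, ?_⟩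
    linear_combination (-(iA : ℤ)) * hq2 - 2 * ht
  -- the congruence modulo `h`
  obtain ⟨b, hb⟩ : (h : ℤ) ∣ 2 * (iB : ℤ) + 1 := by
    refine ⟨2 * q * n - 2 * n * iA - 2 * q * iC - q * iD - 2 * k * iB, ?_⟩
    linear_combination ht - 2 * (iB : ℤ) * hk
  obtain ⟨c, hc⟩ : Odd b := by
    rcases Int.even_or_odd b with ⟨c, hc⟩ | hb'
    · rw [hc] at hb
      have : (2 : ℤ) ∣ 2 * (iB : ℤ) + 1 := ⟨h * c, by linear_combination hb⟩
      omega
    · exact hb'
  have hsum : (q : ℤ) = n + h := by rcases N.rel with ⟨a', b'⟩ | ⟨a', b'⟩ <;> omega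
  have hmain : (2 * q * h * iC + q * h * iD : ℤ) =
      q * h * ((n : ℤ) - 1 - 2 * n * (a + c)) := by
    rw [hc] at hb
    linear_combination ht - 2 * (n : ℤ) * h * ha - (q : ℤ) * n * hb + hq2 - (q : ℤ) * hsum
  have hqh : (0 : ℤ) < q * h := by positivity
  have hpos : 0 ≤ (n : ℤ) - 1 - 2 * n * (a + c) := by
    by_contra hneg
    push Not at hneg
    have h2 := mul_neg_of_pos_of_neg hqh hneg
    rw [← hmain] at h2
    exact absurd h2 (not_lt.mpr (by positivity))
  have hac : a + c ≤ 0 := by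
    by_contra hgt
    push Not at hgt
    have : (2 * n : ℤ) * 1 ≤ 2 * n * (a + c) := mul_le_mul_of_nonneg_left (by omega) (by positivity)
    omega
  have ha0 : 0 ≤ a := by
    by_contra hneg
    push Not at hneg
    have : (q : ℤ) * a ≤ q * (-1) := mul_le_mul_of_nonneg_left (by omega) (by positivity)
    omega
  have hc0 : 0 ≤ c := by
    rw [hc] at hb
    by_contra hneg
    push Not at hneg
    have : (h : ℤ) * (2 * c + 1) ≤ h * (-1) := mul_le_mul_of_nonneg_left (by omega) (by positivity)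
    omega
  have ha' : a = 0 := by omega
  have hc' : c = 0 := by omega
  subst ha' hc'
  have hiA : iA = 2 := by omega
  refine ⟨?_, ?_⟩
  · rw [hA, hiA, hsq, Nat.add_sub_cancel]; ring
  · rw [hC, hD]
    zify [show 1 ≤ n by omega]
    linear_combination hmain

/-- There is an element of the last class centralising a given Sylow 2-subgroup. -/
theorem QData.exists_two (S : Sylow 2 Q) :
    ∃ t : Q, t ∈ (S : Subgroup Q) ∧ t ≠ 1 ∧ (S : Subgroup Q) ≤ C t ∧ Nat.card (C t) = 2 * n := by
  have : Fact (Nat.Prime 2) := ⟨Nat.prime_two⟩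
  have N := D.num
  obtain ⟨t, ht, ht1, hle, hodd⟩ := CfsgLib.ConjRank.exists_sylow_central (p := 2)
    (by rw [D.card]; exact ⟨q * n * h, by ring⟩) S
  refine ⟨t, ht, ht1, hle, ?_⟩
  have hn := N.n4; have hq := N.q7; have hh := N.h3
  have h1 := (C t).card_mul_index
  rw [D.card] at h1
  rcases D.values t ht1 with e | e | e | e <;> rw [e] at hodd h1
  · exact absurd ⟨n * h, by ring⟩ hodd
  · exact absurd ⟨q * n, by ring⟩ hodd
  · exact absurd ⟨q * h, by ring⟩ hodd
  · exact Nat.eq_of_mul_eq_mul_right (show 0 < q * h by positivity) (h1.trans (by ring))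

end CfsgLib.ClassPSL2
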