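import Cfsg.Agent.Lib.ClassPSL2.QCount

/-!
# Involution centralisers from the class sizes

If an odd prime divides `n`, the centraliser of a 2-element `t` with `2n` commuting elements is
`K ⋊ ⟨s⟩` with `K` abelian of index two containing `t` as its only involution and inverted by
every outside element.
-/

set_option autoImplicit false
set_option linter.unusedSectionVars false
set_option linter.style.haveILetI false

namespace CfsgLib.ClassPSL2

open CfsgLib.ConjRank (C mem_C self_mem_C C_le_pow exists_parts exists_conj_ge C_conj)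
open scoped _root_.Classical

variable {Q : Type*} [Group Q]

/-- A nontrivial 2-element. -/
def TwoEl (t : Q) : Prop := t ≠ 1 ∧ ∃ k, orderOf t ∣ 2 ^ k

theorem TwoEl.two_dvd {t : Q} (ht : TwoEl t) : 2 ∣ orderOf t := by
  obtain ⟨ht1, k, hk⟩ := ht
  obtain ⟨j, -, hj⟩ := (Nat.dvd_prime_pow Nat.prime_two).mp hk
  rcases j with _ | j
  · exact absurd (orderOf_eq_one_iff.mp hj) ht1
  · exact hj ▸ dvd_pow_self 2 j.succ_ne_zero

theorem TwoEl.coprime {t u : Q} (ht : TwoEl t) (hu : Odd (orderOf u)) :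
    (orderOf t).Coprime (orderOf u) := by
  obtain ⟨-, k, hk⟩ := ht
  exact ((Nat.coprime_two_left.mpr hu).pow_left k).coprime_dvd_left hk

theorem twoEl_of_dvd {t : Q} (ht : t ≠ 1) {k : ℕ} (hk : orderOf t ∣ 2 ^ k) : TwoEl t := ⟨ht, k, hk⟩

theorem odd_orderOf_of_coprime {x : Q} (h : (orderOf x).Coprime 2) : Odd (orderOf x) :=
  Nat.coprime_two_right.mp h

/-- The centraliser of a product of commuting elements of coprime orders. -/
theorem C_mul_eq {t u : Q} (hc : Commute t u) (hco : (orderOf t).Coprime (orderOf u)) :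
    C (t * u) = C t ⊓ C u := by
  refine le_antisymm ?_ fun z hz => mem_C.mpr ((mem_C.mp hz.1).mul_right (mem_C.mp hz.2))
  obtain ⟨i, hi1, hi2⟩ := Nat.chineseRemainder hco 1 0
  obtain ⟨j, hj1, hj2⟩ := Nat.chineseRemainder hco 0 1
  have ht : (t * u) ^ i = t := by
    rw [hc.mul_pow, pow_eq_pow_iff_modEq.mpr hi1, pow_eq_pow_iff_modEq.mpr hi2, pow_zero, pow_one,
      mul_one]
  have hu : (t * u) ^ j = u := by
    rw [hc.mul_pow, pow_eq_pow_iff_modEq.mpr hj1, pow_eq_pow_iff_modEq.mpr hj2, pow_zero, pow_one,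
      one_mul]
  intro z hz
  have h1 := C_le_pow (t * u) i hz
  have h2 := C_le_pow (t * u) j hz
  rw [ht] at h1; rw [hu] at h2
  exact ⟨h1, h2⟩

theorem pow_of_sq {a : Q} (ha : Odd (orderOf a)) : ∃ k : ℕ, (a * a) ^ k = a := by
  obtain ⟨k, hk⟩ := ha
  refine ⟨k + 1, ?_⟩
  rw [← pow_two, ← pow_mul, show 2 * (k + 1) = orderOf a + 1 by omega, pow_succ, pow_orderOf_eq_one,
    one_mul]

variable [Finite Q] {p q n h : ℕ} (D : QData Q p q n h)
include D

theorem QData.two_card {t : Q} (ht : TwoEl t) : Nat.card (C t) = n ∨ Nat.card (C t) = 2 * n :=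
  D.cd_of_orderOf Nat.prime_two (dvd_mul_right 2 n) ht.two_dvd

theorem QData.sq_commute {t u a : Q} (ht : TwoEl t) (hu : u ∈ C t) (hodd : Odd (orderOf u))
    (ha : a ∈ C t) :
    a * a ∈ C u ∧ ∀ b ∈ C t, a ∉ C u → b ∉ C u → a⁻¹ * b ∈ C u ∧ a * b ∈ C u := by
  have hc : Commute t u := (mem_C.mp hu).symm
  have hco := ht.coprime hodd
  set M := (C u).subgroupOf (C t)
  have hmul := M.card_mul_index
  have hcard : Nat.card M = Nat.card (C (t * u)) := by
    rw [C_mul_eq hc hco, inf_comm, ← Nat.card_congr (Subgroup.subgroupOfEquivOfLe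
      (show C u ⊓ C t ≤ C t from inf_le_right)).toEquiv, Subgroup.inf_subgroupOf_right]
  have hcd := D.cd_of_orderOf (x := t * u) Nat.prime_two (dvd_mul_right 2 n)
    (by rw [hc.orderOf_mul_eq_mul_orderOf_of_coprime hco]; exact ht.two_dvd.mul_right _)
  have hn := D.num.n4
  have hidx : M.index ≤ 2 := by
    have h1 : n * M.index ≤ n * 2 := by
      calc n * M.index ≤ Nat.card M * M.index := by
            refine Nat.mul_le_mul_right _ ?_
            rcases hcd with e | e <;> rw [hcard, e]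
            omega
        _ = Nat.card (C t) := hmul
        _ ≤ n * 2 := by rcases D.two_card ht with e | e <;> rw [e] <;> omega
    exact Nat.le_of_mul_le_mul_left h1 (by omega)
  have h0 : M.index ≠ 0 := Subgroup.index_ne_zero_of_finite
  rcases (show M.index = 1 ∨ M.index = 2 by omega) with e | e
  · have hall : ∀ c ∈ C t, c ∈ C u := fun c hc => by
      have := Subgroup.index_eq_one.mp e ▸ Subgroup.mem_top (⟨c, hc⟩ : C t)
      exact this
    exact ⟨hall _ (mul_mem ha ha), fun b hb hna _ => absurd (hall a ha) hna⟩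
  · refine ⟨Subgroup.mul_self_mem_of_index_two e ⟨a, ha⟩, fun b hb hna hnb => ⟨?_, ?_⟩⟩
    · exact (Subgroup.mul_mem_iff_of_index_two e (a := (⟨a, ha⟩ : C t)⁻¹) (b := ⟨b, hb⟩)).mpr
        (iff_of_false (fun h' => hna ((inv_mem_iff (x := a)).mp h')) hnb)
    · exact (Subgroup.mul_mem_iff_of_index_two e (a := (⟨a, ha⟩ : C t)) (b := ⟨b, hb⟩)).mpr
        (iff_of_false hna hnb)

/-- Elements of odd order in the centraliser of a 2-element commute. -/
theorem QData.odd_comm {t a b : Q} (ht : TwoEl t) (ha : a ∈ C t) (hb : b ∈ C t)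
    (hao : Odd (orderOf a)) (hbo : Odd (orderOf b)) : Commute a b := by
  obtain ⟨k, hk⟩ := pow_of_sq hao
  rw [← hk]
  exact (mem_C.mp (D.sq_commute ht hb hbo ha).1).pow_left k

/-- The odd part of the centraliser of a 2-element. -/
noncomputable def QData.O {t : Q} (ht : TwoEl t) : Subgroup Q where
  carrier := {a | a ∈ C t ∧ Odd (orderOf a)}
  one_mem' := ⟨one_mem _, by simp⟩
  mul_mem' := fun {a b} ha hb => ⟨mul_mem ha.1 hb.1,
    (Odd.of_dvd_nat (ha.2.mul hb.2) ((D.odd_comm ht ha.1 hb.1 ha.2 hb.2).orderOf_mul_dvd_mul_orderOf))⟩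
  inv_mem' := fun {a} ha => ⟨inv_mem ha.1, by rw [orderOf_inv]; exact ha.2⟩

theorem QData.mem_O {t : Q} (ht : TwoEl t) {a : Q} : a ∈ D.O ht ↔ a ∈ C t ∧ Odd (orderOf a) :=
  Iff.rfl

theorem QData.O_le {t : Q} (ht : TwoEl t) : D.O ht ≤ C t := fun _ ha => ((D.mem_O ht).mp ha).1

theorem QData.O_comm {t : Q} (ht : TwoEl t) {a b : Q} (ha : a ∈ D.O ht) (hb : b ∈ D.O ht) :
    Commute a b :=
  D.odd_comm ht ha.1 hb.1 ha.2 hb.2

theorem QData.fact_card {t : Q} (ht : TwoEl t) {r : ℕ} (hr : r.Prime) (hr2 : r ≠ 2) :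
    (Nat.card (C t)).factorization r = n.factorization r := by
  have hn := D.num.n4
  rcases D.two_card ht with e | e <;> rw [e]
  rw [Nat.factorization_mul two_ne_zero (by omega), Finsupp.coe_add, Pi.add_apply,
    Nat.factorization_eq_zero_of_not_dvd fun e =>
      hr2 ((Nat.prime_dvd_prime_iff_eq hr Nat.prime_two).mp e), zero_add]

theorem QData.fact_two : (2 * n).factorization 2 = (Nat.card Q).factorization 2 := by
  have hn := D.num.n4
  have hodd : (q * h).factorization 2 = 0 := Nat.factorization_eq_zero_of_not_dvd fun e => absurd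
    (Nat.eq_one_of_dvd_coprimes D.num.coprime_2qh dvd_rfl e) (by decide)
  have h0 : q * h ≠ 0 := by
    have := D.num.q7; have := D.num.h3; positivity
  rw [D.card, show 2 * q * n * h = 2 * n * (q * h) by ring, Nat.factorization_mul (by omega) h0,
    Finsupp.coe_add, Pi.add_apply, hodd, add_zero]

/-- A subgroup receiving the `r`-elements of the centraliser has the full `r`-part. -/
theorem QData.fact_ge {t : Q} (ht : TwoEl t) (M : Subgroup Q) {r : ℕ} (hr : r.Prime) (hr2 : r ≠ 2)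
    (hM : ∀ a ∈ C t, Odd (orderOf a) → (∃ k, orderOf a ∣ r ^ k) → a ∈ M) :
    n.factorization r ≤ (Nat.card M).factorization r := by
  have := Fact.mk hr
  obtain ⟨P⟩ : Nonempty (Sylow r (C t)) := inferInstance
  rw [← D.fact_card ht hr hr2]
  refine (Nat.Prime.pow_dvd_iff_le_factorization hr Nat.card_pos.ne').mp ?_
  rw [← P.card_eq_multiplicity, ← Subgroup.card_map_of_injective (C t).subtype_injective]
  refine Subgroup.card_dvd_of_le ?_
  rintro _ ⟨a, ha, rfl⟩
  obtain ⟨k, hk⟩ := IsPGroup.iff_orderOf.mp P.2 ⟨a, ha⟩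
  rw [Subgroup.orderOf_mk] at hk
  have hk' : orderOf (a : Q) = r ^ k := (Subgroup.orderOf_coe a).trans hk
  exact hM a a.2 (hk' ▸ (hr.odd_of_ne_two hr2).pow) ⟨k, dvd_of_eq hk'⟩

theorem QData.O_fact {t : Q} (ht : TwoEl t) (r : ℕ) :
    (Nat.card (D.O ht)).factorization r = if r = 2 then 0 else n.factorization r := by
  by_cases hr : r.Prime
  swap
  · simp [Nat.factorization_eq_zero_of_not_prime _ hr]
  split_ifs with h2
  · subst h2
    refine Nat.factorization_eq_zero_of_not_dvd fun h2 => ?_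
    have : Fact (Nat.Prime 2) := ⟨Nat.prime_two⟩
    obtain ⟨⟨a, ha⟩, hao⟩ := exists_prime_orderOf_dvd_card' 2 h2
    rw [Subgroup.orderOf_mk] at hao
    exact absurd ((D.mem_O ht).mp ha).2 (by rw [hao]; decide)
  · refine le_antisymm ?_ (D.fact_ge ht _ hr h2 fun a ha hao _ => ⟨ha, hao⟩)
    rw [← D.fact_card ht hr h2]
    exact (Nat.factorization_le_iff_dvd Nat.card_pos.ne' Nat.card_pos.ne').mpr
      (Subgroup.card_dvd_of_le (D.O_le ht)) r

theorem QData.O_eq_of_le {t t' : Q} (ht : TwoEl t) (ht' : TwoEl t') (hle : D.O ht ≤ D.O ht') :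
    D.O ht = D.O ht' :=
  Subgroup.eq_of_le_of_card_ge hle (le_of_eq (Nat.eq_of_factorization_eq Nat.card_pos.ne'
    Nat.card_pos.ne' fun r => by rw [D.O_fact ht, D.O_fact ht']))

theorem QData.prime_O {t : Q} (ht : TwoEl t) {u : Q} (hu : u ∈ D.O ht) (hu1 : u ≠ 1) :
    Nat.card (C u) = n ∨ Nat.card (C u) = 2 * n := by
  obtain ⟨r, hr, hru⟩ := Nat.exists_prime_and_dvd (mt orderOf_eq_one_iff.mp hu1)
  refine D.cd_of_orderOf hr ?_ hru
  refine hru.trans ((Subgroup.orderOf_dvd_natCard _ hu.1).trans ?_)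
  rcases D.two_card ht with e | e <;> rw [e]
  exact dvd_mul_left n 2

/-- The centraliser of an odd element of the centraliser. -/
theorem QData.cent_O {t x : Q} (ht : TwoEl t) (hx : x ∈ D.O ht) (hx1 : x ≠ 1) :
    (Nat.card (C x) = n ∧ C x ≤ C t) ∨ (Nat.card (C x) = 2 * n ∧
      ∃ (t' : Q) (ht' : TwoEl t'), Nat.card (C t') = 2 * n ∧ C x = C t' ∧ D.O ht' = D.O ht) := by
  have hc : Commute t x := (mem_C.mp hx.1).symm
  have hn := D.num.n4
  rcases D.prime_O ht hx hx1 with e | e
  · refine Or.inl ⟨e, ?_⟩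
    have hle : C (t * x) ≤ C x := by rw [C_mul_eq hc (ht.coprime hx.2)]; exact inf_le_right
    have hcd := D.cd_of_orderOf (x := t * x) Nat.prime_two (dvd_mul_right 2 n)
      (by rw [hc.orderOf_mul_eq_mul_orderOf_of_coprime (ht.coprime hx.2)]; exact ht.two_dvd.mul_right _)
    have heq : C (t * x) = C x := Subgroup.eq_of_le_of_card_ge hle (by
      rcases hcd with e' | e' <;> omega)
    rw [← heq, C_mul_eq hc (ht.coprime hx.2)]
    exact inf_le_left
  · refine Or.inr ⟨e, ?_⟩
    have : Fact (Nat.Prime 2) := ⟨Nat.prime_two⟩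
    obtain ⟨P0⟩ : Nonempty (Sylow 2 (C x)) := inferInstance
    have hcardP : Nat.card ((P0 : Subgroup (C x)).map (C x).subtype) =
        2 ^ (Nat.card Q).factorization 2 := by
      rw [Subgroup.card_map_of_injective (C x).subtype_injective, P0.card_eq_multiplicity, e,
        D.fact_two]
    set P : Sylow 2 Q := Sylow.ofCard _ hcardP
    have hPx : (P : Subgroup Q) ≤ C x := Subgroup.map_subtype_le _
    obtain ⟨t', ht'P, ht'1, hPt', ht'c⟩ := D.exists_two P
    have ht' : TwoEl t' := by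
      obtain ⟨k, hk⟩ := IsPGroup.iff_orderOf.mp P.2 ⟨t', ht'P⟩
      rw [Subgroup.orderOf_mk] at hk
      exact ⟨ht'1, k, dvd_of_eq hk⟩
    have hxO : x ∈ D.O ht' := ⟨mem_C.mpr (mem_C.mp (hPx ht'P)).symm, hx.2⟩
    have hM : 2 * n ∣ Nat.card (C t' ⊓ C x : Subgroup Q) := by
      refine (Nat.factorization_le_iff_dvd (by omega) Nat.card_pos.ne').mp fun r => ?_
      by_cases hr : r.Prime
      swap
      · simp [Nat.factorization_eq_zero_of_not_prime _ hr]
      by_cases hr2 : r = 2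
      · subst hr2
        rw [D.fact_two]
        exact (Nat.Prime.pow_dvd_iff_le_factorization hr Nat.card_pos.ne').mp
          (P.card_eq_multiplicity ▸ Subgroup.card_dvd_of_le (le_inf hPt' hPx))
      · rw [← e, ← show (Nat.card (D.O ht')).factorization r = (Nat.card (C x)).factorization r by
          rw [D.O_fact ht', if_neg hr2, e, Nat.factorization_mul two_ne_zero (by omega),
            Finsupp.coe_add, Pi.add_apply, Nat.factorization_eq_zero_of_not_dvd fun e' =>
              hr2 ((Nat.prime_dvd_prime_iff_eq hr Nat.prime_two).mp e'), zero_add]]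
        exact (Nat.factorization_le_iff_dvd Nat.card_pos.ne' Nat.card_pos.ne').mpr
          (Subgroup.card_dvd_of_le (le_inf (D.O_le ht') fun a ha =>
            mem_C.mpr (D.O_comm ht' ha hxO))) r
    have h1 : C t' ⊓ C x = C t' := Subgroup.eq_of_le_of_card_ge inf_le_left
      (by rw [ht'c]; exact Nat.le_of_dvd Nat.card_pos hM)
    have h2 : C t' ⊓ C x = C x := Subgroup.eq_of_le_of_card_ge inf_le_right
      (by rw [e]; exact Nat.le_of_dvd Nat.card_pos hM)
    refine ⟨t', ht', ht'c, h2.symm.trans h1, (D.O_eq_of_le ht ht' fun a ha => ⟨?_, ha.2⟩).symm⟩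
    rw [← h1, h2]
    exact mem_C.mpr (D.O_comm ht ha hx)

theorem QData.mem_O_of_commute {t x a : Q} (ht : TwoEl t) (hx : x ∈ D.O ht) (hx1 : x ≠ 1)
    (ha : a ∈ C x) (hao : Odd (orderOf a)) : a ∈ D.O ht := by
  rcases D.cent_O ht hx hx1 with ⟨-, hle⟩ | ⟨-, t', ht', -, heq, hO⟩
  · exact ⟨hle ha, hao⟩
  · exact hO ▸ (show a ∈ D.O ht' from ⟨heq ▸ ha, hao⟩)

/-- A 2-element fixing one nontrivial odd element fixes all. -/
theorem QData.O_fixed {t s x : Q} (ht : TwoEl t) (hs : TwoEl s) (hx : x ∈ D.O ht) (hx1 : x ≠ 1)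
    (hsx : x ∈ C s) : D.O ht ≤ C s := by
  have h : D.O ht ⊓ C s = D.O ht := by
    refine Subgroup.eq_of_le_of_card_ge inf_le_left (Nat.le_of_dvd Nat.card_pos ?_)
    refine (Nat.factorization_le_iff_dvd Nat.card_pos.ne' Nat.card_pos.ne').mp fun r => ?_
    rw [D.O_fact ht]
    by_cases hr : r.Prime
    swap
    · simp [Nat.factorization_eq_zero_of_not_prime _ hr]
    split_ifs with h2
    · exact Nat.zero_le _
    · exact D.fact_ge hs _ hr h2 fun a ha hao _ =>
        ⟨D.mem_O_of_commute ht hx hx1 (mem_C.mpr (D.odd_comm hs ha hsx hao hx.2)) hao, ha⟩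
  exact h ▸ inf_le_right

/-- The kernel of the action of the centraliser on its odd part. -/
def QData.K {t : Q} (ht : TwoEl t) : Subgroup Q :=
  C t ⊓ Subgroup.centralizer (D.O ht : Set Q)

theorem QData.mem_K {t : Q} (ht : TwoEl t) {a : Q} :
    a ∈ D.K ht ↔ a ∈ C t ∧ ∀ u ∈ D.O ht, Commute a u :=
  ⟨fun h => ⟨h.1, fun u hu => (Subgroup.mem_centralizer_iff.mp h.2 u hu).symm⟩,
    fun h => ⟨h.1, Subgroup.mem_centralizer_iff.mpr fun u hu => (h.2 u hu).symm⟩⟩

theorem QData.O_le_K {t : Q} (ht : TwoEl t) : D.O ht ≤ D.K ht := fun _ ha =>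
  (D.mem_K ht).mpr ⟨ha.1, fun _ hu => D.O_comm ht ha hu⟩

theorem QData.t_mem_K {t : Q} (ht : TwoEl t) : t ∈ D.K ht :=
  (D.mem_K ht).mpr ⟨self_mem_C t, fun _ hu => (mem_C.mp hu.1).symm⟩

section OddPrime

variable {r₀ : ℕ} [Fact r₀.Prime] (hr₂ : r₀ ≠ 2) (hrn : r₀ ∣ n)
include hr₂ hrn

theorem QData.exists_in_O {t : Q} (ht : TwoEl t) : ∃ u ∈ D.O ht, u ≠ 1 ∧ orderOf u = r₀ := by
  have hr : r₀.Prime := Fact.out
  have hd : r₀ ∣ Nat.card (D.O ht) := by
    refine Nat.dvd_of_factorization_pos ?_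
    rw [D.O_fact ht, if_neg hr₂]
    exact (hr.factorization_pos_of_dvd (by have := D.num.n4; omega) hrn).ne'
  obtain ⟨⟨u, hu⟩, huo⟩ := exists_prime_orderOf_dvd_card' r₀ hd
  rw [Subgroup.orderOf_mk] at huo
  exact ⟨u, hu, fun e => hr.ne_one (by rw [← huo, e, orderOf_one]), huo⟩

theorem QData.not_dvd_qh : ¬ r₀ ∣ q * h := by
  intro e
  have hr : r₀.Prime := Fact.out
  rcases hr.dvd_mul.mp e with e | e
  · exact (D.num.excl hr).1 ⟨e, hrn⟩
  · exact (D.num.excl hr).2.2.1 ⟨hrn, e⟩

/-- The index of the centraliser of an element with `n` or `2n` commuting elements. -/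
theorem QData.not_dvd_index {x : Q} (hx : Nat.card (C x) = n ∨ Nat.card (C x) = 2 * n) :
    ¬ r₀ ∣ (C x).index := by
  intro e
  have hr : r₀.Prime := Fact.out
  have hn := D.num.n4
  have h1 := (C x).card_mul_index
  have hk : ∃ k : ℕ, k ∣ 2 ∧ (C x).index = k * (q * h) := by
    rw [D.card] at h1
    rcases hx with hx | hx <;> rw [hx] at h1
    · exact ⟨2, dvd_rfl, Nat.eq_of_mul_eq_mul_left (show 0 < n by omega) (h1.trans (by ring))⟩
    · exact ⟨1, one_dvd 2, Nat.eq_of_mul_eq_mul_left (show 0 < 2 * n by omega) (h1.trans (by ring))⟩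
  obtain ⟨k, hk2, hk⟩ := hk
  rw [hk] at e
  rcases hr.dvd_mul.mp e with e | e
  · exact hr₂ ((Nat.prime_dvd_prime_iff_eq hr Nat.prime_two).mp (e.trans hk2))
  · exact D.not_dvd_qh hr₂ hrn e

/-- Every element with `n` or `2n` commuting elements centralises a conjugate of a given
element of order `r₀`. -/
theorem QData.exists_conj_mem {x u : Q} (hx : Nat.card (C x) = n ∨ Nat.card (C x) = 2 * n)
    (huo : orderOf u = r₀) : ∃ g : Q, g * u * g⁻¹ ∈ C x := by
  have hup : IsPGroup r₀ (Subgroup.zpowers u) :=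
    IsPGroup.of_card (n := 1) (by rw [Nat.card_zpowers, huo, pow_one])
  obtain ⟨P, hP⟩ := hup.exists_le_sylow
  obtain ⟨g, hg⟩ := exists_conj_ge (D.not_dvd_index hr₂ hrn hx) P
  refine ⟨g⁻¹, mem_C.mpr ?_⟩
  have h1 := (mem_C.mp (hg (hP (Subgroup.mem_zpowers u)))).map (MulAut.conj g⁻¹).toMonoidHom
  simpa [mul_assoc] using h1

/-- No centraliser of a 2-element centralises its odd part. -/
theorem QData.no_central {t : Q} (ht : TwoEl t) (htc : Nat.card (C t) = 2 * n) :
    ¬ C t ≤ D.K ht := by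
  intro hall
  have : Fintype Q := Fintype.ofFinite Q
  have hr : r₀.Prime := Fact.out
  have hn := D.num.n4
  obtain ⟨u, hu, hu1, huo⟩ := D.exists_in_O hr₂ hrn ht
  have hCO : ∀ v ∈ D.O ht, v ≠ 1 → C v = C t := fun v hv hv1 => by
    refine (Subgroup.eq_of_le_of_card_ge (fun a ha => mem_C.mpr (((D.mem_K ht).mp (hall ha)).2 v hv)) ?_).symm
    rw [htc]
    rcases D.prime_O ht hv hv1 with e | e <;> rw [e]
    omega
  set F : Q → Subgroup Q := fun g => C (g * u * g⁻¹) with hF
  have hFmap : ∀ g, F g = (C t).map (MulAut.conj g).toMonoidHom := fun g => by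
    rw [hF]; simp only []; rw [C_conj, hCO u hu hu1]
  have hFcard : ∀ g, Nat.card (F g) = 2 * n := fun g => by
    rw [hFmap, Subgroup.card_map_of_injective (MulAut.conj g).injective, htc]
  set 𝓗 := Finset.univ.image F
  set CD := ofOrder (Q := Q) n ∪ ofOrder (2 * n) with hCD
  have hCDcard : CD.card = q * h * (n - 1) := by
    rw [hCD, Finset.card_union_of_disjoint, D.counts.2]
    exact Finset.disjoint_left.mpr fun x a b => by
      have := (mem_ofOrder.mp a).2.symm.trans (mem_ofOrder.mp b).2; omega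
  have huG : ∀ g, orderOf (g * u * g⁻¹) = r₀ := fun g =>
    (MulEquiv.orderOf_eq (MulAut.conj g) u).trans huo
  have hmem : ∀ x, x ∈ CD → ∃ g, x ∈ F g := by
    intro x hx
    have hxc : Nat.card (C x) = n ∨ Nat.card (C x) = 2 * n :=
      (Finset.mem_union.mp hx).imp (fun h => (mem_ofOrder.mp h).2) fun h => (mem_ofOrder.mp h).2
    obtain ⟨g, hg⟩ := D.exists_conj_mem hr₂ hrn hxc huo
    exact ⟨g, mem_C.mpr (mem_C.mp hg).symm⟩
  have hone : ∀ g g' x, x ≠ 1 → x ∈ F g → x ∈ F g' → F g = F g' := by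
    intro g g' x hx hg hg'
    have hodd : ∀ c, Odd (orderOf (c * u * c⁻¹)) := fun c => by
      rw [huG]; exact hr.odd_of_ne_two hr₂
    have hcomm : Commute (g' * u * g'⁻¹) (g * u * g⁻¹) := by
      obtain ⟨i, j, hij, hjco, k, hik⟩ := exists_parts 2 x
      by_cases hi : x ^ i = 1
      · rw [hi, one_mul] at hij
        rw [hij] at hjco
        have hmemg : ∀ {w}, w ∈ F g → g⁻¹ * w * g ∈ C t := by
          intro w hw
          rw [hFmap] at hw
          obtain ⟨a, ha, rfl⟩ := hw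
          simpa [mul_assoc] using ha
        set x' := g⁻¹ * x * g with hx'
        have hx'O : x' ∈ D.O ht := ⟨hmemg hg, by
          have : orderOf x' = orderOf x := by
            rw [hx']; simpa using MulEquiv.orderOf_eq (MulAut.conj g⁻¹) x
          rw [this]; exact odd_orderOf_of_coprime hjco⟩
        have hu2 : g⁻¹ * (g' * u * g'⁻¹) * g ∈ D.O ht := by
          refine D.mem_O_of_commute ht hx'O (fun e => hx ?_) (mem_C.mpr ?_) ?_
          · rw [show x = g * x' * g⁻¹ by rw [hx']; group, e]; group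
          · have := ((mem_C.mp hg').map (MulAut.conj g⁻¹).toMonoidHom).symm
            simpa [hx', mul_assoc] using this
          · have h2 := MulEquiv.orderOf_eq (MulAut.conj g⁻¹) (g' * u * g'⁻¹)
            simp only [MulAut.conj_apply, inv_inv] at h2
            rw [h2]; exact hodd g'
        have := (D.O_comm ht hu2 hu).map (MulAut.conj g).toMonoidHom
        simpa [mul_assoc] using this
      · have hs : TwoEl (x ^ i) := twoEl_of_dvd hi hik
        refine D.odd_comm hs (mem_C.mpr ?_) (mem_C.mpr ?_) (hodd g') (hodd g)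
        · exact ((mem_C.mp hg').symm.pow_right i)
        · exact ((mem_C.mp hg).symm.pow_right i)
    set u2 := g⁻¹ * (g' * u * g'⁻¹) * g with hu2def
    have hu2 : u2 ∈ D.O ht := by
      refine D.mem_O_of_commute ht hu hu1 (mem_C.mpr ?_) ?_
      · have := hcomm.map (MulAut.conj g⁻¹).toMonoidHom
        simpa [hu2def, mul_assoc] using this
      · have h2 := MulEquiv.orderOf_eq (MulAut.conj g⁻¹) (g' * u * g'⁻¹)
        simp only [MulAut.conj_apply, inv_inv] at h2
        rw [hu2def, h2, huG]; exact hr.odd_of_ne_two hr₂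
    have hu21 : u2 ≠ 1 := fun e => hu1 (by
      have : g' * u * g'⁻¹ = g * u2 * g⁻¹ := by rw [hu2def]; group
      rw [e] at this
      exact conj_eq_one_iff.mp (this.trans (by group)))
    rw [hFmap, ← hCO u2 hu2 hu21, ← C_conj, hF]
    congr 1
    rw [hu2def]; group
  have hsub : ∀ g x, x ∈ F g → x ≠ 1 → x ∈ CD := by
    intro g x hx hx1
    rw [hCD, Finset.mem_union, mem_ofOrder, mem_ofOrder]
    rcases D.cd_of_dvd hx1 hr (hrn.mul_left 2)
      (huG g ▸ Subgroup.orderOf_dvd_natCard _ (mem_C.mpr (mem_C.mp hx).symm)) with e | e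
    · exact Or.inl ⟨hx1, e⟩
    · exact Or.inr ⟨hx1, e⟩
  have hunion : CD = 𝓗.biUnion fun H => (Finset.univ.filter fun x : Q => x ∈ H).erase 1 := by
    ext x
    simp only [Finset.mem_biUnion, Finset.mem_erase, Finset.mem_filter, Finset.mem_univ, true_and,
      Finset.mem_image, 𝓗]
    constructor
    · intro hx
      obtain ⟨g, hg⟩ := hmem x hx
      refine ⟨F g, ⟨g, rfl⟩, fun e => ?_, hg⟩
      subst e
      rcases Finset.mem_union.mp hx with hx | hx <;> exact (mem_ofOrder.mp hx).1 rfl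
    · rintro ⟨_, ⟨g, rfl⟩, hx1, hx⟩
      exact hsub g x hx hx1
  have hcount : CD.card = 𝓗.card * (2 * n - 1) := by
    rw [hunion, Finset.card_biUnion]
    · rw [Finset.sum_const_nat]
      intro H hH
      obtain ⟨g, -, rfl⟩ := Finset.mem_image.mp hH
      rw [Finset.card_erase_of_mem (by simp), ← Fintype.card_subtype, ← Nat.card_eq_fintype_card,
        hFcard g]
    · intro H hH H' hH' hne
      obtain ⟨g, -, rfl⟩ := Finset.mem_image.mp hH
      obtain ⟨g', -, rfl⟩ := Finset.mem_image.mp hH'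
      refine Finset.disjoint_left.mpr fun x a b => hne ?_
      simp only [Finset.mem_erase, Finset.mem_filter, Finset.mem_univ, true_and] at a b
      exact hone g g' x a.1 a.2 b.2
  -- the number of conjugates divides `q h`
  set N := Subgroup.normalizer ((C t : Subgroup Q) : Set Q) with hN
  have hfib : Nat.card Q = 𝓗.card * Nat.card N := by
    rw [Nat.card_eq_fintype_card, ← Finset.card_univ,
      Finset.card_eq_sum_card_image F Finset.univ, Finset.sum_const_nat]
    intro H hH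
    obtain ⟨g, -, rfl⟩ := Finset.mem_image.mp hH
    rw [Nat.card_eq_fintype_card, Fintype.card_subtype]
    refine Finset.card_bij' (fun a _ => g⁻¹ * a) (fun a _ => g * a) (fun a ha => ?_) (fun a ha => ?_)
      (fun a _ => mul_inv_cancel_left g a) (fun a _ => inv_mul_cancel_left g a)
    · simp only [Finset.mem_filter, Finset.mem_univ, true_and] at ha ⊢
      rw [hFmap, hFmap] at ha
      refine Subgroup.mem_normalizer_fintype fun c hc => ?_
      have h1 : a * c * a⁻¹ ∈ (C t).map (MulAut.conj g).toMonoidHom :=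
        ha ▸ Subgroup.mem_map_of_mem (MulAut.conj a).toMonoidHom hc
      obtain ⟨d, hd, hde⟩ := h1
      have e : g⁻¹ * a * c * (g⁻¹ * a)⁻¹ = d := by
        simp only [MulEquiv.coe_toMonoidHom, MulAut.conj_apply] at hde
        calc g⁻¹ * a * c * (g⁻¹ * a)⁻¹ = g⁻¹ * (a * c * a⁻¹) * g := by group
          _ = d := by rw [← hde]; group
      rw [e]; exact hd
    · simp only [Finset.mem_filter, Finset.mem_univ, true_and] at ha ⊢
      rw [hFmap, hFmap]
      refine Subgroup.eq_of_le_of_card_ge ?_ (le_of_eq ?_)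
      · rintro _ ⟨c, hc, rfl⟩
        refine ⟨a * c * a⁻¹, (Subgroup.mem_normalizer_iff.mp ha c).mp hc, ?_⟩
        simp only [MulEquiv.coe_toMonoidHom, MulAut.conj_apply]; group
      · rw [Subgroup.card_map_of_injective (MulAut.conj g).injective,
          Subgroup.card_map_of_injective (MulAut.conj (g * a)).injective]
  obtain ⟨e, he⟩ : 2 * n ∣ Nat.card N := htc ▸ Subgroup.card_dvd_of_le Subgroup.le_normalizer
  rw [D.card, he] at hfib
  have hqh : 𝓗.card * e = q * h := Nat.eq_of_mul_eq_mul_left (show 0 < 2 * n by omega)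
    (by linarith [hfib])
  rw [hcount, ← hqh] at hCDcard
  have hpos : 0 < 𝓗.card := Finset.card_pos.mpr ⟨F 1, Finset.mem_image_of_mem F (Finset.mem_univ 1)⟩
  have h2 : 2 * n - 1 = e * (n - 1) := Nat.eq_of_mul_eq_mul_left hpos (by rw [hCDcard]; ring)
  rcases Nat.lt_or_ge e 3 with he3 | he3
  · interval_cases e <;> omega
  · have := Nat.mul_le_mul_right (n - 1) he3
    omega

/-- Odd elements of the centraliser have centralisers of order `n`. -/
theorem QData.cent_u {t u : Q} (ht : TwoEl t) (hu : u ∈ D.O ht) (hu1 : u ≠ 1) :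
    Nat.card (C u) = n ∧ C u = D.K ht := by
  rcases D.cent_O ht hu hu1 with ⟨hc, hle⟩ | ⟨-, t', ht', ht'c, heq, hO⟩
  · refine ⟨hc, le_antisymm (fun a ha => (D.mem_K ht).mpr ⟨hle ha, fun v hv => ?_⟩) fun a ha =>
      mem_C.mpr (((D.mem_K ht).mp ha).2 u hu)⟩
    obtain ⟨i, j, hij, hjco, k, hik⟩ := exists_parts 2 a
    rw [← hij]
    refine Commute.mul_left ?_ (D.O_comm ht (D.mem_O_of_commute ht hu hu1 (pow_mem ha j)
      (odd_orderOf_of_coprime hjco)) hv)
    by_cases hi : a ^ i = 1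
    · rw [hi]; exact Commute.one_left v
    · exact (mem_C.mp (D.O_fixed ht (twoEl_of_dvd hi hik) hu hu1
        (mem_C.mpr (mem_C.mp (pow_mem ha i)).symm) hv)).symm
  · exfalso
    refine D.no_central hr₂ hrn ht' ht'c fun a ha => (D.mem_K ht').mpr ⟨ha, fun v hv => ?_⟩
    have hu' : u ∈ D.O ht' := hO ▸ hu
    obtain ⟨i, j, hij, hjco, k, hik⟩ := exists_parts 2 a
    rw [← hij]
    refine Commute.mul_left ?_ (D.O_comm ht' ⟨pow_mem ha j, odd_orderOf_of_coprime hjco⟩ hv)
    by_cases hi : a ^ i = 1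
    · rw [hi]; exact Commute.one_left v
    · exact (mem_C.mp (D.O_fixed ht' (twoEl_of_dvd hi hik) hu' hu1
        (mem_C.mpr (mem_C.mp (heq.symm ▸ pow_mem ha i : a ^ i ∈ C u)).symm) hv)).symm

theorem QData.K_comm {t : Q} (ht : TwoEl t) {a b : Q} (ha : a ∈ D.K ht) (hb : b ∈ D.K ht) :
    Commute a b := by
  obtain ⟨u, hu, hu1, -⟩ := D.exists_in_O hr₂ hrn ht
  obtain ⟨hc, hK⟩ := D.cent_u hr₂ hrn ht hu hu1
  have hmin : CfsgLib.ConjRank.Minimal u := by
    intro y hy hle
    refine Subgroup.eq_of_le_of_card_ge hle ?_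
    have hd := Subgroup.card_dvd_of_le hle
    rw [hc] at hd ⊢
    have hN := D.num
    rcases D.cards hy with e | e | e | e <;> rw [e] at hd ⊢
    · have := Nat.eq_one_of_dvd_coprimes hN.coprime_qn dvd_rfl hd
      have := hN.q7; omega
    · have := Nat.eq_one_of_dvd_coprimes hN.coprime_nh hd dvd_rfl
      have := hN.h3; omega
    · omega
  obtain ⟨i, j, hij, hjco, k, hik⟩ := exists_parts 2 a
  rw [← hij]
  refine Commute.mul_left ?_ ((((D.mem_K ht).mp hb).2 _
    ⟨pow_mem ha.1 j, odd_orderOf_of_coprime hjco⟩).symm)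
  have hle := hmin.le_C hu1 (a := a ^ i) (hK ▸ pow_mem ha i)
    ((((Nat.coprime_two_left.mpr hu.2).pow_left k).coprime_dvd_left hik).symm)
  exact (mem_C.mp (hle (hK ▸ hb))).symm

end OddPrime

end CfsgLib.ClassPSL2
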