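import Cfsg.Agent.Lib.ClassPSL2.QOdd
import Cfsg.Agent.Lib.BSW.Recognition
import Cfsg.Agent.Lib.Classical.Card
import Cfsg.Agent.Lib.BrauerTuan.Identify

/-!
# The Brauer–Suzuki–Wall configuration from the class sizes

If an odd prime divides `n`, a group with the class sizes of `PSL(2, q)` and its order is
`PSL(2, q)`.
-/

set_option autoImplicit false
set_option linter.unusedSectionVars false
set_option linter.style.haveILetI false

namespace CfsgLib.ClassPSL2

open CfsgLib.ConjRank (C mem_C self_mem_C C_le_pow exists_parts exists_conj_ge C_conj)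
open scoped _root_.Classical

/-- A projective special linear group of this order is the wanted one. -/
theorem QData.iso_of_psl {Q : Type*} [Group Q] [Finite Q] {p q n h : ℕ} (D : QData Q p q n h)
    {F : Type*} [Field F] [Fintype F] (hF : Fintype.card F = q)
    {F' : Type} [Field F'] [Fintype F'] (hodd : Odd (Fintype.card F'))
    (e : Q ≃* Matrix.ProjectiveSpecialLinearGroup (Fin 2) F') :
    Nonempty (Q ≃* Matrix.ProjectiveSpecialLinearGroup (Fin 2) F) := by
  have h1 := CfsgLib.Classical.card_PSL_two (F := F')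
  rw [← Nat.card_congr e.toEquiv, D.card] at h1
  have hF3 : 3 ≤ Fintype.card F' := by
    rcases hodd with ⟨j, hj⟩
    have := Fintype.one_lt_card (α := F')
    omega
  have hg : Nat.gcd 2 (Fintype.card F' - 1) = 2 := by
    rcases hodd with ⟨j, hj⟩
    exact Nat.gcd_eq_left ⟨j, by omega⟩
  rw [hg] at h1
  have e2 : 2 * (2 * q * n * h) = q * (q ^ 2 - 1) := by
    rw [D.num.sq, Nat.add_sub_cancel]; ring
  rw [e2] at h1
  have hq0 := D.num.q7
  have hmono : ∀ u v : ℕ, 2 ≤ u → u < v → u * (u ^ 2 - 1) < v * (v ^ 2 - 1) := by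
    intro u v hu huv
    have h2 : u ^ 2 ≤ v ^ 2 := Nat.pow_le_pow_left huv.le 2
    have h3 : 4 ≤ u ^ 2 := (Nat.pow_le_pow_left hu 2)
    exact Nat.mul_lt_mul_of_lt_of_le huv (by omega) (by omega)
  have hcard : Fintype.card F' = Fintype.card F := by
    rw [hF]
    rcases lt_trichotomy q (Fintype.card F') with e | e | e
    · exact absurd h1 (hmono _ _ (by omega) e).ne
    · exact e.symm
    · exact absurd h1 (hmono _ _ (by omega) e).ne'
  obtain ⟨e'⟩ := CfsgLib.BrauerTuan.psl_congr (F := F') (K := F) hcard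
  exact ⟨e.trans e'⟩


variable {Q : Type*} [Group Q] [Finite Q] {p q n h : ℕ} (D : QData Q p q n h)
  {r₀ : ℕ} [Fact r₀.Prime] (hr₂ : r₀ ≠ 2) (hrn : r₀ ∣ n)
include D hr₂ hrn

theorem QData.K_le {t : Q} (ht : TwoEl t) : D.K ht ≤ C t := inf_le_left

theorem QData.odd_mem_O {t a : Q} (ht : TwoEl t) (ha : a ∈ C t) (hao : (orderOf a).Coprime 2) :
    a ∈ D.O ht := ⟨ha, odd_orderOf_of_coprime hao⟩

/-- An odd element of the centraliser commutes with no outside element. -/
theorem QData.not_commute_O {t g v : Q} (ht : TwoEl t) (hgK : g ∉ D.K ht) (hv : v ∈ D.O ht)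
    (hv1 : v ≠ 1) : ¬ Commute g v := fun e =>
  hgK ((D.cent_u hr₂ hrn ht hv hv1).2 ▸ mem_C.mpr e)

/-- Elements of the centraliser outside the kernel are 2-elements. -/
theorem QData.twoEl_outside {t g : Q} (ht : TwoEl t) (hg : g ∈ C t) (hgK : g ∉ D.K ht) :
    TwoEl g := by
  obtain ⟨i, j, hij, hjco, k, hik⟩ := exists_parts 2 g
  have hj : g ^ j ∈ D.O ht := D.odd_mem_O hr₂ hrn ht (pow_mem hg j) hjco
  have hjK := D.O_le_K ht hj
  by_cases hj1 : g ^ j = 1
  · rw [hj1, mul_one] at hij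
    rw [hij] at hik
    exact ⟨fun e => hgK (e ▸ one_mem _), k, hik⟩
  · exact absurd ((Commute.refl g).pow_right j) (D.not_commute_O hr₂ hrn ht hgK hj hj1)

theorem QData.mul_mem_K {t a b : Q} (ht : TwoEl t) (ha : a ∈ C t) (hb : b ∈ C t)
    (haK : a ∉ D.K ht) (hbK : b ∉ D.K ht) : a * b ∈ D.K ht := by
  obtain ⟨u, hu, hu1, huo⟩ := D.exists_in_O hr₂ hrn ht
  have hK := (D.cent_u hr₂ hrn ht hu hu1).2
  rw [← hK] at haK hbK ⊢
  exact ((D.sq_commute ht hu.1 hu.2 ha).2 b hb haK hbK).2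

theorem QData.sq_mem_K {t a : Q} (ht : TwoEl t) (ha : a ∈ C t) : a * a ∈ D.K ht := by
  obtain ⟨u, hu, hu1, huo⟩ := D.exists_in_O hr₂ hrn ht
  rw [← (D.cent_u hr₂ hrn ht hu hu1).2]
  exact (D.sq_commute ht hu.1 hu.2 ha).1

theorem QData.card_K {t : Q} (ht : TwoEl t) : Nat.card (D.K ht) = n := by
  obtain ⟨u, hu, hu1, huo⟩ := D.exists_in_O hr₂ hrn ht
  obtain ⟨hc, hK⟩ := D.cent_u hr₂ hrn ht hu hu1
  rw [← hK, hc]

theorem QData.exists_outside {t : Q} (ht : TwoEl t) (htc : Nat.card (C t) = 2 * n) :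
    ∃ s, s ∈ C t ∧ s ∉ D.K ht :=
  SetLike.not_le_iff_exists.mp (D.no_central hr₂ hrn ht htc)

/-- A 2-element of the kernel commuting with an outside element has the same centraliser. -/
theorem QData.C_eq {t s y : Q} (ht : TwoEl t) (htc : Nat.card (C t) = 2 * n) (hs : s ∈ C t)
    (hsK : s ∉ D.K ht) (hy : y ∈ D.K ht) (hy2 : TwoEl y) (hc : Commute s y) : C y = C t := by
  have hn := D.num.n4
  have hK : ∀ a ∈ D.K ht, a ∈ C t ⊓ C y := fun a ha =>
    ⟨D.K_le hr₂ hrn ht ha, mem_C.mpr (D.K_comm hr₂ hrn ht ha hy)⟩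
  have hlt : D.K ht < C t ⊓ C y := lt_of_le_of_ne hK fun e =>
    hsK (e ▸ (⟨hs, mem_C.mpr hc⟩ : s ∈ C t ⊓ C y))
  have hgt : n < Nat.card (C t ⊓ C y : Subgroup Q) := by
    rw [← D.card_K hr₂ hrn ht]
    refine lt_of_le_of_ne (Nat.le_of_dvd Nat.card_pos (Subgroup.card_dvd_of_le hlt.le)) fun e => ?_
    exact hlt.ne (Subgroup.eq_of_le_of_card_ge hlt.le e.ge)
  obtain ⟨c, hcc⟩ := Subgroup.card_dvd_of_le (hlt.le)
  rw [D.card_K hr₂ hrn ht] at hcc
  have h2n : 2 * n ≤ Nat.card (C t ⊓ C y : Subgroup Q) := by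
    rcases Nat.lt_or_ge c 2 with hlt' | hge'
    · interval_cases c <;> omega
    · rw [hcc, mul_comm 2 n]; exact Nat.mul_le_mul_left n hge'
  have hyle : Nat.card (C y) ≤ 2 * n := by rcases D.two_card hy2 with e | e <;> omega
  exact (Subgroup.eq_of_le_of_card_ge inf_le_right (hyle.trans h2n)).symm.trans
    (Subgroup.eq_of_le_of_card_ge inf_le_left (htc.le.trans h2n))

/-- The key step. -/
theorem QData.key {t s y : Q} (ht : TwoEl t) (htc : Nat.card (C t) = 2 * n) (hs : s ∈ C t)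
    (hsK : s ∉ D.K ht) (hy : y ∈ D.K ht) (hc : Commute s y) : y = 1 ∨ y = t := by
  by_contra hcon
  obtain ⟨hy1, hyt⟩ := not_or.mp hcon
  have hyC := D.K_le hr₂ hrn ht hy
  -- `y` is a 2-element
  obtain ⟨i, j, hij, hjco, k, hik⟩ := exists_parts 2 y
  have hj : y ^ j = 1 := by
    by_contra hj1
    exact D.not_commute_O hr₂ hrn ht hsK (D.odd_mem_O hr₂ hrn ht (pow_mem hyC j) hjco) hj1
      (hc.pow_right j)
  rw [hj, mul_one] at hij
  rw [hij] at hik
  have hy2 : TwoEl y := ⟨hy1, k, hik⟩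
  have hs2 := D.twoEl_outside hr₂ hrn ht hs hsK
  obtain ⟨o, ho, ho1, -⟩ := D.exists_in_O hr₂ hrn hs2
  -- nothing sharing the centraliser of `t` commutes with `o`
  have hno : ∀ z : Q, C z = C t → z ∉ C o := by
    intro z hz hzo
    have h1 : o ∈ C t := hz ▸ mem_C.mpr (mem_C.mp hzo).symm
    exact D.not_commute_O hr₂ hrn ht hsK (v := o) ⟨h1, ho.2⟩ ho1 (mem_C.mp ho.1).symm
  have htC : t ∈ C s := mem_C.mpr (mem_C.mp hs).symm
  have hyS : y ∈ C s := mem_C.mpr hc.symm
  obtain ⟨hz, -⟩ := (D.sq_commute hs2 ho.1 ho.2 htC).2 y hyS (hno t rfl)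
    (hno y (D.C_eq hr₂ hrn ht htc hs hsK hy hy2 hc))
  have hzK : t⁻¹ * y ∈ D.K ht := mul_mem (inv_mem (D.t_mem_K ht)) hy
  have hz1 : t⁻¹ * y ≠ 1 := fun e => hyt (inv_mul_eq_one.mp e).symm
  have hcty : Commute t y := D.K_comm hr₂ hrn ht (D.t_mem_K ht) hy
  obtain ⟨m, hm⟩ := ht.2
  have hz2 : TwoEl (t⁻¹ * y) := twoEl_of_dvd hz1 (k := max m k) (by
    refine (Commute.inv_left hcty).orderOf_mul_dvd_lcm.trans (Nat.lcm_dvd ?_ ?_)
    · rw [orderOf_inv]; exact hm.trans (pow_dvd_pow 2 (le_max_left m k))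
    · exact hik.trans (pow_dvd_pow 2 (le_max_right m k)))
  exact hno _ (D.C_eq hr₂ hrn ht htc hs hsK hzK hz2
    ((Commute.inv_right (mem_C.mp hs)).mul_right hc)) hz

/-- The outside elements are involutions. -/
theorem QData.outside_sq {t g : Q} (ht : TwoEl t) (htc : Nat.card (C t) = 2 * n) (hg : g ∈ C t)
    (hgK : g ∉ D.K ht) : g * g = 1 := by
  rcases D.key hr₂ hrn ht htc hg hgK (D.sq_mem_K hr₂ hrn ht hg)
    ((Commute.refl g).mul_right (Commute.refl g)) with e | e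
  · exact e
  exfalso
  have hg2 := D.twoEl_outside hr₂ hrn ht hg hgK
  obtain ⟨o, ho, ho1, -⟩ := D.exists_in_O hr₂ hrn hg2
  have hot : o ∈ C t := by
    rw [← e]
    exact mem_C.mpr ((mem_C.mp ho.1).mul_right (mem_C.mp ho.1))
  exact D.not_commute_O hr₂ hrn ht hgK (v := o) ⟨hot, ho.2⟩ ho1 (mem_C.mp ho.1).symm

theorem QData.inverts {t g x : Q} (ht : TwoEl t) (htc : Nat.card (C t) = 2 * n) (hg : g ∈ C t)
    (hgK : g ∉ D.K ht) (hx : x ∈ D.K ht) : g * x * g⁻¹ = x⁻¹ := by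
  have hgx : g * x ∉ D.K ht := fun e => hgK (by simpa using mul_mem e (inv_mem hx))
  have h1 := D.outside_sq hr₂ hrn ht htc (mul_mem hg (D.K_le hr₂ hrn ht hx)) hgx
  have h2 : g⁻¹ = g := inv_eq_of_mul_eq_one_right (D.outside_sq hr₂ hrn ht htc hg hgK)
  rw [h2]
  exact eq_inv_of_mul_eq_one_left ((mul_assoc (g * x) g x).trans h1)

theorem QData.t_sq {t : Q} (ht : TwoEl t) (htc : Nat.card (C t) = 2 * n) : t * t = 1 := by
  obtain ⟨s, hs, hsK⟩ := D.exists_outside hr₂ hrn ht htc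
  have hc : Commute s t := mem_C.mp hs
  rcases D.key hr₂ hrn ht htc hs hsK (mul_mem (D.t_mem_K ht) (D.t_mem_K ht)) (hc.mul_right hc)
    with e | e
  · exact e
  · exact absurd (mul_right_cancel (b := t) (e.trans (one_mul t).symm)) ht.1

theorem QData.uniq {t x : Q} (ht : TwoEl t) (htc : Nat.card (C t) = 2 * n) (hx : x ∈ D.K ht)
    (hx2 : x * x = 1) : x = 1 ∨ x = t := by
  obtain ⟨s, hs, hsK⟩ := D.exists_outside hr₂ hrn ht htc
  refine D.key hr₂ hrn ht htc hs hsK hx ?_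
  have := D.inverts hr₂ hrn ht htc hs hsK hx
  rw [inv_eq_of_mul_eq_one_right hx2] at this
  exact mul_inv_eq_iff_eq_mul.mp this

/-- Every element with `n` or `2n` commuting elements is conjugate into a given kernel, or is an
outside element; in either case involutions are conjugate to the centre. -/
theorem QData.involution_conj {t x : Q} (ht : TwoEl t) (htc : Nat.card (C t) = 2 * n) (hx1 : x ≠ 1)
    (hx2 : x * x = 1) : ∃ g : Q, x = g * t * g⁻¹ := by
  have hxt : TwoEl x := twoEl_of_dvd hx1 (k := 1)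
    (orderOf_dvd_of_pow_eq_one (by rw [pow_one, pow_two]; exact hx2))
  obtain ⟨u, hu, hu1, huo⟩ := D.exists_in_O hr₂ hrn ht
  obtain ⟨g, hg⟩ := D.exists_conj_mem hr₂ hrn (D.two_card hxt) huo
  have hc : Commute (g⁻¹ * x * g) u := by
    have := ((mem_C.mp hg).symm).map (MulAut.conj g⁻¹).toMonoidHom
    simpa [mul_assoc] using this
  refine ⟨g, ?_⟩
  rcases D.uniq hr₂ hrn ht htc ((D.cent_u hr₂ hrn ht hu hu1).2 ▸ mem_C.mpr hc)
    (by rw [show g⁻¹ * x * g * (g⁻¹ * x * g) = g⁻¹ * (x * x) * g by group, hx2]; group) with e | e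
  · exact absurd (by rw [show x = g * (g⁻¹ * x * g) * g⁻¹ by group, e]; group) hx1
  · rw [← e]; group

/-- Conjugation back into the kernel fixes the centre. -/
theorem QData.ti {t g x : Q} (ht : TwoEl t) (htc : Nat.card (C t) = 2 * n) (hx : x ∈ D.K ht)
    (hx1 : x ≠ 1) (hgx : g * x * g⁻¹ ∈ D.K ht) : g * t = t * g := by
  suffices h : g * t * g⁻¹ = t from mul_inv_eq_iff_eq_mul.mp h
  have htt := D.t_sq hr₂ hrn ht htc
  have hg1 : g * t * g⁻¹ ≠ 1 := fun e => ht.1 (conj_eq_one_iff.mp e)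
  have hgt : g * t * g⁻¹ * (g * t * g⁻¹) = 1 := by
    rw [show g * t * g⁻¹ * (g * t * g⁻¹) = g * (t * t) * g⁻¹ by group, htt]; group
  obtain ⟨r, hr, hrx⟩ := Nat.exists_prime_and_dvd (mt orderOf_eq_one_iff.mp hx1)
  set y := x ^ (orderOf x / r) with hy
  have hyo : orderOf y = r := orderOf_pow_orderOf_div (orderOf_pos x).ne' hrx
  have hy1 : y ≠ 1 := fun e => hr.ne_one (by rw [← hyo, e, orderOf_one])
  have hyK : y ∈ D.K ht := pow_mem hx _
  have hgy : g * y * g⁻¹ ∈ D.K ht := by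
    rw [hy, ← conj_pow]; exact pow_mem hgx _
  rcases eq_or_ne r 2 with hr2 | hr2
  · have hyy : y * y = 1 := by rw [← pow_two, ← hr2, ← hyo, pow_orderOf_eq_one]
    have hyt : y = t := (D.uniq hr₂ hrn ht htc hyK hyy).resolve_left hy1
    exact (D.uniq hr₂ hrn ht htc (hyt ▸ hgy) hgt).resolve_left hg1
  · have hodd : Odd (orderOf y) := hyo ▸ hr.odd_of_ne_two hr2
    have hgyo : Odd (orderOf (g * y * g⁻¹)) := by
      rwa [CfsgLib.BSW.orderOf_conj]
    have h1 := (D.cent_u hr₂ hrn ht (u := y) ⟨D.K_le hr₂ hrn ht hyK, hodd⟩ hy1).2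
    have h2 := (D.cent_u hr₂ hrn ht (u := g * y * g⁻¹) ⟨D.K_le hr₂ hrn ht hgy, hgyo⟩
      (fun e => hy1 (conj_eq_one_iff.mp e))).2
    refine (D.uniq hr₂ hrn ht htc ?_ hgt).resolve_left hg1
    rw [← h2, C_conj]
    exact Subgroup.mem_map_of_mem (MulAut.conj g).toMonoidHom (h1 ▸ D.t_mem_K ht)

/-- The configuration. -/
theorem QData.setting : ∃ (t s : Q) (K : Subgroup Q), CfsgLib.BSW.Setting t K s ∧
    K ⊔ Subgroup.zpowers s = Subgroup.centralizer ({t} : Set Q) ∧ Nat.card (C t) = 2 * n ∧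
    (∀ u, Nat.card (C u) = n ∨ Nat.card (C u) = 2 * n → ∃ g : Q, g⁻¹ * u * g ∈ C t) := by
  have : Fact (Nat.Prime 2) := ⟨Nat.prime_two⟩
  obtain ⟨S⟩ : Nonempty (Sylow 2 Q) := inferInstance
  obtain ⟨t, htS, ht1, -, htc⟩ := D.exists_two S
  have ht : TwoEl t := by
    obtain ⟨k, hk⟩ := IsPGroup.iff_orderOf.mp S.2 ⟨t, htS⟩
    rw [Subgroup.orderOf_mk] at hk
    exact ⟨ht1, k, dvd_of_eq hk⟩
  obtain ⟨s, hs, hsK⟩ := D.exists_outside hr₂ hrn ht htc
  have hss := D.outside_sq hr₂ hrn ht htc hs hsK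
  have hKle := D.K_le hr₂ hrn ht
  have hcent : ∀ g, g * t = t * g ↔ g ∈ D.K ht ∨ g * s ∈ D.K ht := by
    intro g
    refine ⟨fun e => ?_, ?_⟩
    · by_cases hgK : g ∈ D.K ht
      · exact Or.inl hgK
      · exact Or.inr (D.mul_mem_K hr₂ hrn ht (mem_C.mpr e) hs hgK hsK)
    · rintro (hg | hg)
      · exact mem_C.mp (hKle hg)
      · have := mul_mem (hKle hg) (inv_mem hs)
        rw [mul_inv_cancel_right] at this
        exact mem_C.mp this
  refine ⟨t, s, D.K ht, ⟨CfsgLib.BSW.orderOf_two_iff.mpr ⟨D.t_sq hr₂ hrn ht htc, ht1⟩,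
    CfsgLib.BSW.orderOf_two_iff.mpr ⟨hss, fun e => hsK (e ▸ one_mem _)⟩,
    fun a ha b hb => D.K_comm hr₂ hrn ht ha hb, D.t_mem_K ht,
    fun x hx => D.inverts hr₂ hrn ht htc hs hsK hx,
    fun x hx => D.uniq hr₂ hrn ht htc hx, hsK, hcent,
    fun g x hx hx1 hgx => D.ti hr₂ hrn ht htc hx hx1 hgx, ?_⟩, ?_, htc, ?_⟩
  · intro x y hx hy
    obtain ⟨hx2, hx1⟩ := CfsgLib.BSW.orderOf_two_iff.mp hx
    obtain ⟨hy2, hy1⟩ := CfsgLib.BSW.orderOf_two_iff.mp hy
    obtain ⟨a, rfl⟩ := D.involution_conj hr₂ hrn ht htc hx1 hx2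
    obtain ⟨b, rfl⟩ := D.involution_conj hr₂ hrn ht htc hy1 hy2
    exact isConj_iff.mpr ⟨b * a⁻¹, by group⟩
  · refine le_antisymm (sup_le hKle (Subgroup.zpowers_le.mpr hs)) fun g hg => ?_
    rcases (hcent g).mp (mem_C.mp hg) with e | e
    · exact Subgroup.mem_sup_left e
    · have := mul_mem (Subgroup.mem_sup_left (T := Subgroup.zpowers s) e)
        (inv_mem (Subgroup.mem_sup_right (S := D.K ht) (Subgroup.mem_zpowers s)))
      rwa [mul_inv_cancel_right] at this
  · intro u hu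
    obtain ⟨v, hv, hv1, hvo⟩ := D.exists_in_O hr₂ hrn ht
    obtain ⟨g, hg⟩ := D.exists_conj_mem hr₂ hrn hu hvo
    refine ⟨g, hKle ((D.cent_u hr₂ hrn ht hv hv1).2 ▸ mem_C.mpr ?_)⟩
    have := ((mem_C.mp hg).symm).map (MulAut.conj g⁻¹).toMonoidHom
    simpa [mul_assoc] using this

omit D hr₂ hrn [Fact r₀.Prime] in
/-- A fixed-point-free involution inverts a normal subgroup. -/
theorem inverts_of_fixedPointFree {N : Subgroup Q} [N.Normal] {x a : Q} (hx : x * x = 1)
    (hf : ∀ b ∈ N, Commute x b → b = 1) (ha : a ∈ N) : x * a * x⁻¹ = a⁻¹ := by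
  let φ : N →* N := (MulAut.conjNormal x : MulAut N).toMonoidHom
  have hfix : MonoidHom.FixedPointFree φ := fun b hb => by
    refine Subtype.ext (hf b b.2 ?_)
    have := congrArg Subtype.val hb
    exact mul_inv_eq_iff_eq_mul.mp this
  have hinv : Function.Involutive φ := fun b => Subtype.ext (by
    show x * (x * (b : Q) * x⁻¹) * x⁻¹ = b
    rw [show x * (x * (b : Q) * x⁻¹) * x⁻¹ = x * x * (b : Q) * (x * x)⁻¹ by group, hx]
    group)
  exact congrArg Subtype.val (congrFun (hfix.coe_eq_inv_of_involutive hinv) ⟨a, ha⟩)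

/-- The group is simple. -/
theorem QData.simple : IsSimpleGroup Q := by
  obtain ⟨t, s, K, hset, hHK, htc, hconjC⟩ := D.setting hr₂ hrn
  have hN4 := D.num.n4; have hq7 := D.num.q7; have hh3 := D.num.h3
  have ht : TwoEl t := twoEl_of_dvd hset.t_ne (k := 1) (by rw [hset.t2, pow_one])
  have : Fintype Q := Fintype.ofFinite Q
  have : Nontrivial Q := ⟨⟨t, 1, hset.t_ne⟩⟩
  refine ⟨fun N hN => ?_⟩
  haveI := hN
  by_cases hinvN : ∃ x ∈ N, orderOf x = 2
  · right
    obtain ⟨x, hx, hx2⟩ := hinvN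
    have hall : ∀ y : Q, orderOf y = 2 → y ∈ N := fun y hy => by
      obtain ⟨g, rfl⟩ := isConj_iff.mp (hset.conj x y hx2 hy)
      exact hN.conj_mem x hx g
    have hsN := hall s hset.s2
    have hCt : C t ≤ N := by
      intro g hg
      by_cases hgK : g ∈ K
      · have hsg : s * g ∉ K := fun e => hset.sK (by simpa using mul_mem e (inv_mem hgK))
        have hsgC : s * g * t = t * (s * g) :=
          mem_C.mp (mul_mem (hHK.le (Subgroup.mem_sup_right (Subgroup.mem_zpowers s)) : s ∈ C t) hg)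
        have := mul_mem (inv_mem hsN) (hall _ (hset.outside hsgC hsg))
        simpa using this
      · exact hall g (hset.outside (mem_C.mp hg) hgK)
    -- all elements with `n` or `2n` commuting elements lie in `N`
    have hsub : insert (1 : Q) (ofOrder (Q := Q) n ∪ ofOrder (2 * n)) ⊆
        Finset.univ.filter fun y => y ∈ N := by
      intro y hy
      simp only [Finset.mem_filter, Finset.mem_univ, true_and]
      rcases Finset.mem_insert.mp hy with rfl | hy
      · exact one_mem N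
      obtain ⟨g, hg⟩ := hconjC y ((Finset.mem_union.mp hy).imp (fun h => (mem_ofOrder.mp h).2)
        fun h => (mem_ofOrder.mp h).2)
      have := hN.conj_mem _ (hCt hg) g
      simpa [mul_assoc] using this
    have hcnt := Finset.card_le_card hsub
    rw [Finset.card_insert_of_notMem, Finset.card_union_of_disjoint, D.counts.2,
      ← Fintype.card_subtype, ← Nat.card_eq_fintype_card] at hcnt
    rotate_left
    · exact Finset.disjoint_left.mpr fun y a b => by
        have := (mem_ofOrder.mp a).2.symm.trans (mem_ofOrder.mp b).2; omega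
    · simp [mem_ofOrder]
    rw [← Subgroup.index_eq_one]
    have hmul := N.card_mul_index
    rw [D.card] at hmul
    by_contra hne
    have hdvd : 2 * n ∣ Nat.card N := htc ▸ Subgroup.card_dvd_of_le hCt
    have hoddi : Odd N.index := by
      obtain ⟨c, hc⟩ := hdvd
      refine (D.num.q_odd.mul D.num.h_odd).of_dvd_nat (Dvd.intro_left c
        (Nat.eq_of_mul_eq_mul_left (show 0 < 2 * n by omega) ?_))
      calc 2 * n * (c * N.index) = Nat.card N * N.index := by rw [hc]; ring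
        _ = 2 * q * n * h := hmul
        _ = 2 * n * (q * h) := by ring
    obtain ⟨j, hj⟩ := hoddi
    have h3 : Nat.card N * 3 ≤ 2 * q * n * h := hmul ▸ Nat.mul_le_mul_left _ (by omega)
    have h4 : q * h * (n - 1) + q * h = q * h * n := by
      rw [← Nat.mul_succ]; congr 1; omega
    have h5 : 4 * (q * h) ≤ n * (q * h) := Nat.mul_le_mul_right _ hN4
    nlinarith [h4, h3, hcnt, h5]
  · left
    push Not at hinvN
    have hodd : ∀ x ∈ N, x * x = 1 → x = 1 := fun x hx hxx => by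
      by_contra hx1
      exact hinvN x hx (CfsgLib.BSW.orderOf_two_iff.mpr ⟨hxx, hx1⟩)
    by_cases hfree : ∀ x : Q, orderOf x = 2 → ∀ b ∈ N, Commute x b → b = 1
    · rw [eq_bot_iff]
      intro a ha
      have hst : Commute s t := (hset.cent s).mpr (Or.inr (by rw [hset.ss]; exact one_mem K))
      have hts2 : orderOf (s * t) = 2 := hset.outside (hst.mul_left (Commute.refl t))
        fun e => hset.sK (by
          have := mul_mem e (inv_mem hset.tK)
          rwa [mul_inv_cancel_right] at this)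
      refine Subgroup.mem_bot.mpr (hfree _ hts2 a ha ?_)
      have h1 := inverts_of_fixedPointFree hset.tt (hfree t hset.t2) ha
      have h2 := inverts_of_fixedPointFree hset.ss (hfree s hset.s2) (inv_mem ha)
      refine mul_inv_eq_iff_eq_mul.mp ?_
      rw [inv_inv] at h2
      calc s * t * a * (s * t)⁻¹ = s * (t * a * t⁻¹) * s⁻¹ := by group
        _ = a := by rw [h1, h2]
    exfalso
    push Not at hfree
    obtain ⟨x, hx2, b, hb, hxb, hb1⟩ := hfree
    obtain ⟨g, rfl⟩ := isConj_iff.mp (hset.conj t x hset.t2 hx2)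
    set v := g⁻¹ * b * g with hv
    have hvN : v ∈ N := by simpa [hv] using hN.conj_mem b hb g⁻¹
    have hvt : Commute t v := by
      have := hxb.map (MulAut.conj g⁻¹).toMonoidHom
      simpa [hv, mul_assoc] using this
    have hv1 : v ≠ 1 := fun e => hb1 (by rw [show b = g * v * g⁻¹ by rw [hv]; group, e]; group)
    obtain ⟨r, hr, hrv⟩ := Nat.exists_prime_and_dvd (mt orderOf_eq_one_iff.mp hv1)
    have := Fact.mk hr
    set w := v ^ (orderOf v / r) with hw
    have hwo : orderOf w = r := orderOf_pow_orderOf_div (orderOf_pos v).ne' hrv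
    have hw1 : w ≠ 1 := fun e => hr.ne_one (by rw [← hwo, e, orderOf_one])
    have hwN : w ∈ N := pow_mem hvN _
    have hwt : Commute w t := (hvt.symm).pow_left _
    have hwK : w ∈ K := by
      by_contra hwK
      exact hinvN w hwN (hset.outside hwt hwK)
    have hwt' : w ≠ t := fun e => hinvN w hwN (e ▸ hset.t2)
    have hCw : ∀ a, Commute a w → a ∈ K := fun a ha =>
      (hset.centralizer_eq hwK hw1 hwt').mp ha
    have hwp : IsPGroup r (Subgroup.zpowers (⟨w, hwN⟩ : N)) :=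
      IsPGroup.of_card (n := 1) (by rw [Nat.card_zpowers, Subgroup.orderOf_mk, hwo, pow_one])
    obtain ⟨P, hP⟩ := hwp.exists_le_sylow
    have hwP : (⟨w, hwN⟩ : N) ∈ P := hP (Subgroup.mem_zpowers _)
    have hnt : Nontrivial P := ⟨⟨⟨_, hwP⟩, 1, fun e => hw1 (congrArg (fun a : P => ((a : N) : Q)) e)⟩⟩
    haveI : Nontrivial (Subgroup.center P) := P.2.center_nontrivial
    obtain ⟨⟨z, hz⟩, hz1⟩ := exists_ne (1 : Subgroup.center P)
    have hz1' : ((z : N) : Q) ≠ 1 := fun e => hz1 (Subtype.ext (Subtype.ext (Subtype.ext e)))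
    have hzc : ∀ a : P, Commute ((a : N) : Q) ((z : N) : Q) := fun a =>
      congrArg (fun c : P => ((c : N) : Q)) (Subgroup.mem_center_iff.mp hz a)
    have hzK : ((z : N) : Q) ∈ K := hCw _ (hzc ⟨_, hwP⟩).symm
    have hPK : ∀ a : P, ((a : N) : Q) ∈ K := fun a =>
      (hset.centralizer_eq hzK hz1' (fun e => hinvN _ (z : N).2 (e ▸ hset.t2))).mp (hzc a)
    -- the Frattini argument
    have hF := Sylow.normalizer_sup_eq_top P
    have hprod : ∀ a : Q, ∃ c ∈ C t, ∃ m ∈ N, a = c * m := by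
      intro a
      have ha : a ∈ Subgroup.normalizer ((((P : Subgroup N).map N.subtype : Subgroup Q)) : Set Q) ⊔ N :=
        hF ▸ Subgroup.mem_top a
      obtain ⟨c, hc, m, hm, rfl⟩ := Subgroup.mem_sup_of_normal_right.mp ha
      refine ⟨c, mem_C.mpr ?_, m, hm, rfl⟩
      have h1 := (Subgroup.mem_normalizer_iff.mp hc w).mp ⟨⟨w, hwN⟩, hwP, rfl⟩
      obtain ⟨y, hy, hye⟩ := h1
      exact hset.ti c w hwK hw1 (hye ▸ hPK ⟨y, hy⟩)
    obtain ⟨a, ha⟩ := isConj_iff.mp (hset.conj t s hset.t2 hset.s2)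
    obtain ⟨c, hc, m, hm, e⟩ : ∃ c ∈ C t, ∃ m ∈ N, a⁻¹ = c * m := hprod a⁻¹
    have ha' : s = m⁻¹ * t * m := by
      rw [← ha, show a = m⁻¹ * c⁻¹ by rw [← mul_inv_rev, ← e, inv_inv]]
      have := mem_C.mp hc
      calc m⁻¹ * c⁻¹ * t * (m⁻¹ * c⁻¹)⁻¹ = m⁻¹ * (c⁻¹ * t * c) * m := by group
        _ = m⁻¹ * t * m := by rw [mul_assoc c⁻¹, ← this.eq]; group
    have hst : s * t ∈ N := by
      have h1 : t * m * t⁻¹ ∈ N := hN.conj_mem m hm t
      rw [ha', show m⁻¹ * t * m * t = m⁻¹ * (t * m * t⁻¹) * (t * t) by group, hset.tt, mul_one]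
      exact mul_mem (inv_mem hm) h1
    refine hinvN _ hst (hset.outside ?_ fun e => hset.sK ?_)
    · have hc' : Commute s t := (hset.cent s).mpr (Or.inr (by rw [hset.ss]; exact one_mem K))
      exact hc'.mul_left (Commute.refl t)
    · have := mul_mem e (inv_mem hset.tK)
      rwa [mul_inv_cancel_right] at this

/-- Identification. -/
theorem QData.iso_of_odd_prime {F : Type*} [Field F] [Fintype F] (hF : Fintype.card F = q) :
    Nonempty (Q ≃* Matrix.ProjectiveSpecialLinearGroup (Fin 2) F) := by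
  obtain ⟨t, s, K, hset, hHK, -, -⟩ := D.setting hr₂ hrn
  haveI := D.simple hr₂ hrn
  obtain ⟨F', _, _, hodd, ⟨e⟩⟩ := hset.isPSL hHK
  exact D.iso_of_psl hF hodd e

end CfsgLib.ClassPSL2
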