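import Cfsg.Agent.Lib.ClassPSL2.QSetting
import Cfsg.Agent.S0731

/-!
# The case in which `n` is a power of two

The `p`-subgroups of order `q` are abelian and self-centralising, there are `q + 1` of them, and
the action on them is a Zassenhaus group.
-/

set_option autoImplicit false
set_option linter.unusedSectionVars false
set_option linter.style.haveILetI false

open MulAction Pointwise

namespace CfsgLib.ClassPSL2

open CfsgLib.ConjRank (C mem_C self_mem_C C_conj)
open scoped _root_.Classical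

/-- An odd power next to a power of two is the first power. -/
theorem exponent_eq_one {x : ℤ} {f m : ℕ} (hx : Odd x) (hx2 : 2 ≤ x.natAbs) (hf : Odd f)
    (h : (x ^ f - 1).natAbs = 2 ^ m) : f = 1 := by
  have hS : Odd (∑ i ∈ Finset.range f, x ^ i) := by
    have hgen : ∀ k : ℕ, Odd (∑ i ∈ Finset.range k, x ^ i) ↔ Odd k := by
      intro k
      induction k with
      | zero => simp
      | succ k ih =>
        rw [Finset.sum_range_succ, Int.odd_add, Nat.odd_add_one, ih]
        exact iff_iff_eq.mpr (by simp [Int.not_even_iff_odd.mpr (hx.pow (n := k))])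
    exact (hgen f).mpr hf
  have hg : (x ^ f - 1).natAbs = (∑ i ∈ Finset.range f, x ^ i).natAbs * (x - 1).natAbs := by
    rw [← Int.natAbs_mul, geom_sum_mul]
  have hS1 : (∑ i ∈ Finset.range f, x ^ i).natAbs = 1 := by
    have hd : (∑ i ∈ Finset.range f, x ^ i).natAbs ∣ 2 ^ m := h ▸ ⟨_, hg⟩
    exact Nat.eq_one_of_dvd_coprimes ((Nat.coprime_two_right.mpr (Int.natAbs_odd.mpr hS)).pow_right m)
      dvd_rfl hd
  rw [hS1, one_mul] at hg
  by_contra hf1
  have hf3 : 3 ≤ f := by obtain ⟨j, hj⟩ := hf; omega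
  have h1 : x.natAbs ^ 3 ≤ (x ^ f).natAbs := by
    rw [Int.natAbs_pow]; exact Nat.pow_le_pow_right (by omega) hf3
  have h2 : x.natAbs * 4 ≤ x.natAbs ^ 3 := by
    rw [pow_succ', pow_two]
    exact Nat.mul_le_mul_left _ (Nat.mul_le_mul hx2 hx2)
  omega

/-- A prime power next to a power of two is a prime or `9`. -/
theorem exponent_le_two {p f m : ℕ} (hp : p.Prime) (hp2 : p ≠ 2) (hm : 2 ≤ m)
    (h : p ^ f = 2 ^ m + 1 ∨ p ^ f + 1 = 2 ^ m) : f ≤ 2 := by
  have hp3 : 3 ≤ p := by have := hp.two_le; omega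
  have hodd := hp.odd_of_ne_two hp2
  obtain ⟨m', rfl⟩ := Nat.exists_eq_add_of_le hm
  rcases Nat.even_or_odd f with ⟨g, rfl⟩ | hf
  · have hy : Odd (p ^ g) := hodd.pow
    obtain ⟨j, hj⟩ := hy
    rw [pow_add, hj] at h
    rcases h with h | h
    · have hd : 2 * j ∣ 2 ^ (2 + m') := ⟨2 * j + 2, by linarith⟩
      obtain ⟨a, -, ha⟩ := (Nat.dvd_prime_pow Nat.prime_two).mp hd
      have hd' : 2 * j + 2 ∣ 2 ^ (2 + m') := ⟨2 * j, by linarith⟩
      obtain ⟨b, -, hb⟩ := (Nat.dvd_prime_pow Nat.prime_two).mp hd'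
      rcases Nat.eq_zero_or_pos g with rfl | hg
      · omega
      have hj1 : j = 1 := by
        rcases a with _ | _ | a
        · omega
        · simp at ha; omega
        · rcases b with _ | _ | b
          · simp at hb
          · subst_vars; norm_num at hb; subst hb; norm_num at ha; exact absurd ha.symm (pow_ne_zero _ two_ne_zero)
          · rw [pow_add] at ha hb; omega
      subst hj1
      by_contra hg2
      have h9 : p ^ 2 ≤ p ^ g := Nat.pow_le_pow_right (by omega) (by omega)
      nlinarith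
    · exfalso
      have e : 4 * 2 ^ m' = 2 ^ (2 + m') := by rw [pow_add]; norm_num
      have e2 : (2 * j + 1) * (2 * j + 1) = 4 * (j * j + j) + 1 := by ring
      omega
  · suffices hf1 : f = 1 by omega
    rcases h with h | h
    · refine exponent_eq_one (x := p) (m := 2 + m') (by exact_mod_cast hodd) (by simp; omega) hf ?_
      have : ((p : ℤ) ^ f) = (((p ^ f : ℕ) : ℕ) : ℤ) := by push_cast; rfl
      rw [this, h]; simp
    · refine exponent_eq_one (x := -(p : ℤ)) (m := 2 + m') (by simpa using hodd) (by simp; omega) hf ?_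
      have : ((p : ℤ) ^ f) + 1 = ((2 ^ (2 + m') : ℕ) : ℤ) := by exact_mod_cast h
      rw [hf.neg_pow, show -(p : ℤ) ^ f - 1 = -(((p : ℤ) ^ f) + 1) by ring, this, Int.natAbs_neg,
        Int.natAbs_natCast]

variable {Q : Type*} [Group Q] [Finite Q] {p q n h : ℕ} (D : QData Q p q n h)
include D

theorem QData.card_sylow [Fact p.Prime] (P : Sylow p Q) : Nat.card (P : Subgroup Q) = q := by
  obtain ⟨f, hf⟩ := D.num.hpow
  rw [P.card_eq_multiplicity, D.card, show 2 * q * n * h = q * (2 * (n * h)) by ring, hf]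
  have hn := D.num.n4; have hh := D.num.h3
  have h0 : ¬ p ∣ 2 * (n * h) := by
    intro e
    rcases (D.num.hp).dvd_mul.mp e with e | e
    · exact D.num.p2 ((Nat.prime_dvd_prime_iff_eq D.num.hp Nat.prime_two).mp e)
    · exact D.num.hp.ne_one (Nat.eq_one_of_dvd_coprimes D.num.coprime_q D.num.p_dvd_q e)
  rw [Nat.factorization_mul (pow_ne_zero _ D.num.hp.ne_zero) (by positivity), Finsupp.coe_add,
    Pi.add_apply, D.num.hp.factorization_pow, Finsupp.single_eq_same,
    Nat.factorization_eq_zero_of_not_dvd h0, add_zero]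

theorem QData.sylow_comm [Fact p.Prime] {k : ℕ} (hk : n = 2 ^ k) (P : Sylow p Q) {a b : Q}
    (ha : a ∈ P) (hb : b ∈ P) : Commute a b := by
  obtain ⟨f, hf⟩ := D.num.hpow
  have hn := D.num.n4
  have hk1 : 1 ≤ k := by rcases k with _ | k <;> [(simp at hk; omega); omega]
  have hf2 : f ≤ 2 := exponent_le_two (m := k + 1) D.num.hp D.num.p2 (by omega) (by
    rw [← hf, pow_succ', ← hk]
    rcases D.num.rel with ⟨e, -⟩ | ⟨e, -⟩ <;> omega)
  have hcard : Nat.card (P : Subgroup Q) = p ^ f := (D.card_sylow P).trans hf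
  have hcomm : ∀ x y : (P : Subgroup Q), x * y = y * x := by
    interval_cases f
    · intro x y
      have := (Nat.card_eq_one_iff_unique.mp hcard).1
      exact Subsingleton.elim _ _
    · rw [pow_one] at hcard
      have := isCyclic_of_prime_card hcard
      exact fun x y => IsCyclic.commGroup.mul_comm x y
    · exact fun x y => IsPGroup.commutative_of_card_eq_prime_sq hcard x y
  exact congrArg Subtype.val (hcomm ⟨a, ha⟩ ⟨b, hb⟩)

theorem QData.cent_sylow [Fact p.Prime] {k : ℕ} (hk : n = 2 ^ k) (P : Sylow p Q) {v : Q}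
    (hv : v ∈ P) (hv1 : v ≠ 1) : C v = (P : Subgroup Q) := by
  have hn := D.num.n4; have hq := D.num.q7
  have hle : (P : Subgroup Q) ≤ C v := fun a ha => mem_C.mpr (D.sylow_comm hk P ha hv)
  refine (Subgroup.eq_of_le_of_card_ge hle ?_).symm
  have hd := Subgroup.card_dvd_of_le hle
  rw [D.card_sylow P] at hd ⊢
  rcases D.cards hv1 with e | e | e | e <;> rw [e] at hd ⊢
  · have := Nat.eq_one_of_dvd_coprimes D.num.coprime_qh dvd_rfl hd; omega
  · have := Nat.eq_one_of_dvd_coprimes D.num.coprime_qn dvd_rfl hd; omega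
  · have := Nat.eq_one_of_dvd_coprimes
      (Nat.Coprime.mul_right (Nat.coprime_two_right.mpr D.num.q_odd) D.num.coprime_qn) dvd_rfl hd
    omega

theorem QData.sylow_eq_of_mem [Fact p.Prime] {k : ℕ} (hk : n = 2 ^ k) {P P' : Sylow p Q} {v : Q}
    (hv : v ∈ P) (hv' : v ∈ P') (hv1 : v ≠ 1) : P = P' :=
  Sylow.ext ((D.cent_sylow hk P hv hv1).symm.trans (D.cent_sylow hk P' hv' hv1))

theorem QData.count_sylow [Fact p.Prime] {k : ℕ} (hk : n = 2 ^ k) :
    Nat.card (Sylow p Q) = q + 1 := by
  have : Fintype Q := Fintype.ofFinite Q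
  have : Fintype (Sylow p Q) := Fintype.ofFinite _
  have hq := D.num.q7
  have hA : ofOrder (Q := Q) q = (Finset.univ : Finset (Sylow p Q)).biUnion
      (fun P => (Finset.univ.filter fun x : Q => x ∈ P).erase 1) := by
    ext x
    simp only [mem_ofOrder, Finset.mem_biUnion, Finset.mem_erase, Finset.mem_filter,
      Finset.mem_univ, true_and]
    constructor
    · rintro ⟨hx1, hx⟩
      let P : Sylow p Q := Sylow.ofCard (C x) (by
        obtain ⟨P0⟩ : Nonempty (Sylow p Q) := inferInstance
        rw [hx, ← P0.card_eq_multiplicity, D.card_sylow])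
      exact ⟨P, hx1, self_mem_C x⟩
    · rintro ⟨P, hx1, hx⟩
      exact ⟨hx1, by rw [D.cent_sylow hk P hx hx1, D.card_sylow]⟩
  have h := D.counts.1
  rw [hA, Finset.card_biUnion, Finset.sum_const_nat (m := q - 1), Finset.card_univ,
    ← Nat.card_eq_fintype_card] at h
  · refine Nat.eq_of_mul_eq_mul_right (show 0 < q - 1 by omega) ?_
    rw [h, ← Nat.sq_sub_sq, one_pow]
  · intro P _
    rw [Finset.card_erase_of_mem (by simp), ← Fintype.card_subtype, ← Nat.card_eq_fintype_card]
    exact congrArg (· - 1) (D.card_sylow P)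
  · intro P _ P' _ hne
    refine Finset.disjoint_left.mpr fun x a b => hne ?_
    simp only [Finset.mem_erase, Finset.mem_filter, Finset.mem_univ, true_and] at a b
    exact D.sylow_eq_of_mem hk a.2 b.2 a.1

theorem QData.mem_stab_iff [Fact p.Prime] {g : Q} {P : Sylow p Q} :
    g • P = P ↔ g ∈ Subgroup.normalizer ((P : Subgroup Q) : Set Q) := by
  rw [← MulAction.mem_stabilizer_iff, Sylow.stabilizer_eq_normalizer]
  exact Iff.rfl

/-- An element of a Sylow subgroup fixes no other one. -/
theorem QData.semireg [Fact p.Prime] {k : ℕ} (hk : n = 2 ^ k) {P P' : Sylow p Q} (hne : P' ≠ P)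
    {v : Q} (hv : v ∈ P) (hfix : v • P' = P') : v = 1 := by
  by_contra hv1
  have hvp : IsPGroup p (Subgroup.zpowers v) :=
    P.2.to_le (Subgroup.zpowers_le.mpr hv)
  have hle : Subgroup.zpowers v ≤ (P' : Subgroup Q) :=
    ((le_inf le_rfl (Subgroup.zpowers_le.mpr (D.mem_stab_iff.mp hfix))).trans
      (hvp.inf_normalizer_sylow P').le).trans inf_le_right
  exact hne (D.sylow_eq_of_mem hk (hle (Subgroup.mem_zpowers v)) hv hv1)

theorem QData.iso_of_two_power {k : ℕ} (hk : n = 2 ^ k) {F : Type*} [Field F] [Fintype F]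
    (hF : Fintype.card F = q) :
    Nonempty (Q ≃* Matrix.ProjectiveSpecialLinearGroup (Fin 2) F) := by
  have := Fact.mk D.num.hp
  have hq := D.num.q7; have hn := D.num.n4; have hh := D.num.h3
  have hcardΩ := D.count_sylow hk
  obtain ⟨P₀⟩ : Nonempty (Sylow p Q) := inferInstance
  have hreg : ∀ R y z : Sylow p Q, y ≠ R → z ≠ R → ∃! u : (R : Subgroup Q), (u : Q) • y = z := by
    intro R y z hy hz
    have hRfix : ∀ a : Q, a ∈ R → a • R = R := fun a ha => D.mem_stab_iff.mpr (Subgroup.le_normalizer ha)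
    let f : ↥(R : Subgroup Q) → {c : Sylow p Q // c ≠ R} := fun a => ⟨(a : Q) • y, fun e => hy
      (MulAction.injective (a : Q) (e.trans (hRfix _ a.2).symm))⟩
    have hf : Function.Injective f := by
      intro a b e
      have e' : ((b : Q)⁻¹ * a) • y = y := by
        rw [mul_smul, show (a : Q) • y = (b : Q) • y from congrArg Subtype.val e, inv_smul_smul]
      exact Subtype.ext (inv_mul_eq_one.mp
        (D.semireg hk hy (mul_mem (inv_mem b.2) a.2) e')).symm
    have hb : Function.Bijective f := by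
      refine (Nat.bijective_iff_injective_and_card f).2 ⟨hf, ?_⟩
      haveI := Fintype.ofFinite (Sylow p Q)
      rw [D.card_sylow, Nat.card_eq_fintype_card, Fintype.card_subtype_compl,
        Fintype.card_subtype_eq, ← Nat.card_eq_fintype_card, hcardΩ]
      omega
    obtain ⟨a, ha⟩ := hb.2 ⟨z, hz⟩
    exact ⟨a, congrArg Subtype.val ha,
      fun b hb' => hf (Subtype.ext (hb'.trans (congrArg Subtype.val ha).symm))⟩
  have h2 : IsMultiplyPretransitive Q (Sylow p Q) 2 := by
    rw [is_two_pretransitive_iff]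
    intro a b c d hab hcd
    obtain ⟨g, hg⟩ := MulAction.exists_smul_eq Q a c
    have h1 : g • b ≠ c := fun e => hab (MulAction.injective g (hg.trans e.symm))
    obtain ⟨v, hv, -⟩ := hreg c _ d h1 hcd.symm
    refine ⟨v * g, ?_, ?_⟩
    · rw [mul_smul, hg, D.mem_stab_iff.mpr (Subgroup.le_normalizer v.2)]
    · rw [mul_smul, hv]
  have hthree : ∀ g : Q, ∀ a b c : Sylow p Q, a ≠ b → b ≠ c → a ≠ c →
      g • a = a → g • b = b → g • c = c → g = 1 := by
    intro g a b c hab hbc hac ha hb hc
    obtain ⟨u, hu, huniq⟩ := hreg a b c hab.symm hac.symm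
    have hm : g * u * g⁻¹ ∈ (a : Subgroup Q) :=
      (Subgroup.mem_normalizer_iff.mp (D.mem_stab_iff.mp ha) _).mp u.2
    have e : (⟨g * u * g⁻¹, hm⟩ : (a : Subgroup Q)) = u := huniq _ (by
      show (g * (u : Q) * g⁻¹) • b = c
      rw [mul_smul, mul_smul, inv_smul_eq_iff.mpr hb.symm, hu, hc])
    have hu1 : (u : Q) ≠ 1 := fun e => hbc (by rw [← hu, e, one_smul])
    have hga : g ∈ C (u : Q) :=
      mem_C.mpr (mul_inv_eq_iff_eq_mul.mp (congrArg Subtype.val e))
    rw [D.cent_sylow hk a u.2 hu1] at hga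
    exact D.semireg hk hab.symm hga hb
  have hfaith : FaithfulSMul Q (Sylow p Q) := by
    refine ⟨fun {g₁ g₂} hg => ?_⟩
    obtain ⟨a, b, c, hab, hbc, hac⟩ : ∃ a b c : Sylow p Q, a ≠ b ∧ b ≠ c ∧ a ≠ c := by
      haveI := Fintype.ofFinite (Sylow p Q)
      obtain ⟨e⟩ : Nonempty (Fin 3 ↪ Sylow p Q) := Function.Embedding.nonempty_of_card_le (by
        rw [Fintype.card_fin, ← Nat.card_eq_fintype_card, hcardΩ]; omega)
      exact ⟨e 0, e 1, e 2, e.injective.ne (by decide), e.injective.ne (by decide),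
        e.injective.ne (by decide)⟩
    have hfix : ∀ x : Sylow p Q, (g₂⁻¹ * g₁) • x = x := fun x => by
      rw [mul_smul, hg, inv_smul_smul]
    exact (inv_mul_eq_one.mp (hthree _ a b c hab hbc hac (hfix a) (hfix b) (hfix c))).symm
  -- a two-point stabiliser is not trivial
  have htwo : ∃ g : Q, g ≠ 1 ∧ ∃ a b : Sylow p Q, a ≠ b ∧ g • a = a ∧ g • b = b := by
    obtain ⟨b, hb⟩ : ∃ b : Sylow p Q, b ≠ P₀ := by
      have : Nontrivial (Sylow p Q) := Finite.one_lt_card_iff_nontrivial.mp (by omega)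
      exact exists_ne P₀
    set N := Subgroup.normalizer ((P₀ : Subgroup Q) : Set Q)
    have hN : N.index = q + 1 := by rw [← hcardΩ, Sylow.card_eq_index_normalizer P₀]; rfl
    have hNc := N.card_mul_index
    rw [hN, D.card] at hNc
    have hlt : Nat.card (P₀ : Subgroup Q) < Nat.card N := by
      rw [D.card_sylow]
      have hsq := D.num.sq
      by_contra hle
      push Not at hle
      have h1 : Nat.card N * (q + 1) ≤ q * (q + 1) := Nat.mul_le_mul_right _ hle
      have h2 : q + 1 < 2 * n * h := by nlinarith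
      have h3 : q * (q + 1) < q * (2 * n * h) := Nat.mul_lt_mul_of_pos_left h2 (by omega)
      nlinarith
    obtain ⟨g, hg, hgP⟩ : ∃ g ∈ N, g ∉ P₀ := by
      by_contra hall
      push Not at hall
      have := Nat.le_of_dvd Nat.card_pos (Subgroup.card_dvd_of_le (show N ≤ P₀ from hall))
      omega
    obtain ⟨u, hu, -⟩ := hreg P₀ (g • b) b
      (fun e => hb (MulAction.injective g (e.trans (D.mem_stab_iff.mpr hg).symm))) hb
    refine ⟨u * g, fun e => hgP ?_, P₀, b, hb.symm, ?_, ?_⟩
    · rw [show g = (u : Q)⁻¹ from eq_inv_of_mul_eq_one_right e]; exact inv_mem u.2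
    · rw [mul_smul, D.mem_stab_iff.mpr hg, D.mem_stab_iff.mpr (Subgroup.le_normalizer u.2)]
    · rw [mul_smul, hu]
  have hnoreg : ∀ M : Subgroup Q, M.Normal → MulAction.IsPretransitive M (Sylow p Q) →
      ∃ a : Sylow p Q, MulAction.stabilizer M a ≠ ⊥ := by
    intro M hM hMt
    by_contra hall
    push Not at hall
    have hMc : Nat.card M = q + 1 := by
      have h1 := MulAction.index_stabilizer_of_transitive M P₀
      rw [hall P₀, Subgroup.index_bot, hcardΩ] at h1
      exact h1
    obtain ⟨⟨x, hx⟩, hx1⟩ : ∃ x : M, x ≠ 1 := by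
      have : Nontrivial M := Finite.one_lt_card_iff_nontrivial.mp (by omega)
      exact exists_ne 1
    have hxne : x ≠ 1 := fun e => hx1 (Subtype.ext e)
    have hle : (C x).index ≤ Nat.card M := by
      have : Fintype Q := Fintype.ofFinite Q
      rw [← CfsgLib.Char.ClassProd.card_filter_isConj x, Nat.card_eq_fintype_card,
        Fintype.card_subtype]
      refine Finset.card_le_card fun y hy => ?_
      simp only [Finset.mem_filter, Finset.mem_univ, true_and] at hy ⊢
      obtain ⟨c, rfl⟩ := isConj_iff.mp hy.symm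
      exact hM.conj_mem x hx c
    have hsq := D.num.sq
    have h1 : q + 1 < 2 * n * h := by nlinarith
    have h2 : 4 * h ≤ n * h := Nat.mul_le_mul_right h hn
    rcases D.values x hxne with e | e | e | e <;> rw [e] at hle <;> nlinarith
  have hZ : Cfsg.IsZassenhausGroup Q (Sylow p Q) := ⟨hfaith, h2, hthree, htwo, hnoreg⟩
  have hstab : MulAction.stabilizer Q P₀ = Subgroup.normalizer ((P₀ : Subgroup Q) : Set Q) :=
    Sylow.stabilizer_eq_normalizer P₀
  rcases Cfsg.Agent.S0731.result hZ P₀ (P₀ : Subgroup Q) (hstab ▸ Subgroup.le_normalizer)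
      (by rw [hstab]; exact Subgroup.normal_in_normalizer)
      ⟨⟨fun a b => Subtype.ext (D.sylow_comm hk P₀ a.2 b.2)⟩⟩ (hreg P₀) with
    ⟨h3, ht⟩ | ⟨F', _, _, hchar, ⟨e⟩⟩
  · exfalso
    haveI : IsPretransitive Q (Fin 3 ↪ Sylow p Q) := h3
    haveI := Fintype.ofFinite (Sylow p Q)
    obtain ⟨e⟩ : Nonempty (Fin 3 ↪ Sylow p Q) := Function.Embedding.nonempty_of_card_le (by
      rw [Fintype.card_fin, ← Nat.card_eq_fintype_card, hcardΩ]; omega)
    have e3 := MulAction.index_stabilizer_of_transitive Q e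
    rw [ht e, Subgroup.index_bot, Nat.card_eq_fintype_card (α := Fin 3 ↪ Sylow p Q),
      Fintype.card_embedding_eq, Fintype.card_fin, ← Nat.card_eq_fintype_card (α := Sylow p Q),
      hcardΩ, D.card] at e3
    have e4 : (q + 1).descFactorial 3 = q * (q + 1) * (q - 1) := by
      simp [Nat.descFactorial_succ]; ring
    have e5 : q * (q + 1) * (q - 1) = q * (4 * (n * h)) := by
      have hqq : (q + 1) * (q - 1) = q ^ 2 - 1 := by rw [← Nat.sq_sub_sq, one_pow]
      rw [mul_assoc, hqq, D.num.sq, Nat.add_sub_cancel]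
    rw [e4, e5] at e3
    have : 0 < q * (n * h) := by positivity
    linarith [show 2 * q * n * h = 2 * (q * (n * h)) by ring,
      show q * (4 * (n * h)) = 4 * (q * (n * h)) by ring]
  · exact D.iso_of_psl hF (Nat.odd_iff.mpr (FiniteField.odd_card_of_char_ne_two hchar)) e

/-- A group with these sizes and order is `PSL(2, q)`. -/
theorem QData.iso {F : Type*} [Field F] [Fintype F] (hF : Fintype.card F = q) :
    Nonempty (Q ≃* Matrix.ProjectiveSpecialLinearGroup (Fin 2) F) := by
  by_cases hex : ∃ r : ℕ, r.Prime ∧ r ≠ 2 ∧ r ∣ n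
  · obtain ⟨r, hr, hr2, hrn⟩ := hex
    have := Fact.mk hr
    exact D.iso_of_odd_prime hr2 hrn hF
  · push Not at hex
    refine D.iso_of_two_power (k := n.primeFactorsList.length) ?_ hF
    refine Nat.eq_prime_pow_of_unique_prime_dvd (by have := D.num.n4; omega) fun {r} hr hrn => ?_
    by_contra hr2
    exact hex r hr hr2 hrn

end CfsgLib.ClassPSL2
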