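import Cfsg.Agent.Lib.ClassPSL2.QSmall
import Cfsg.Agent.S2508

/-!
# The class sizes of `PSL(2, q)`, `q` odd, as hypotheses
-/

set_option autoImplicit false
set_option linter.style.haveILetI false

namespace CfsgLib.ClassPSL2

open CfsgLib.ConjRank (C mem_C)

theorem index_eq_one_iff {G : Type*} [Group G] {x : G} :
    (C x).index = 1 ↔ x ∈ Subgroup.center G := by
  rw [Subgroup.index_eq_one, Subgroup.mem_center_iff]
  exact ⟨fun e g => mem_C.mp (e ▸ Subgroup.mem_top g),
    fun e => eq_top_iff.mpr fun g _ => mem_C.mpr (e g)⟩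

/-- A group with the class sizes of `PSL(2, q)`. -/
theorem sizes_of_range {F : Type*} [Field F] [Fintype F]
    (hodd : ¬ 2 ∣ Fintype.card F) (h7 : 7 ≤ Fintype.card F) {G : Type*} [Group G]
    (h : Set.range (fun g : G => (Subgroup.centralizer ({g} : Set G)).index) =
      Set.range (fun g : (Matrix.ProjectiveSpecialLinearGroup (Fin 2) F) =>
        (Subgroup.centralizer ({g} : Set (Matrix.ProjectiveSpecialLinearGroup (Fin 2) F))).index)) :
    ∃ p n m : ℕ, Sizes G p (Fintype.card F) n m := by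
  obtain ⟨p, hchar⟩ := CharP.exists F
  obtain ⟨⟨f, hf0⟩, hp, hf⟩ := FiniteField.card F p
  have hp2 : p ≠ 2 := by
    rintro rfl
    exact hodd (hf ▸ dvd_pow_self 2 hf0.ne')
  have key : ∀ n m : ℕ, Num p (Fintype.card F) n m →
      Set.range (fun g : G => (Subgroup.centralizer ({g} : Set G)).index) =
        {1, 2 * n * m, Fintype.card F * m, 2 * Fintype.card F * n, 2 * Fintype.card F * m} →
      ∃ p n m : ℕ, Sizes G p (Fintype.card F) n m := by
    intro n m hN hr
    have hn := hN.n4; have hm := hN.h3; have hq := hN.q7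
    have hgt : ∀ e, e ∈ ({2 * n * m, Fintype.card F * m, 2 * Fintype.card F * n} : Set ℕ) →
        ∃ x : G, x ∉ Subgroup.center G ∧ (C x).index = e := by
      intro e he
      have hmem : e ∈ Set.range (fun g : G => (Subgroup.centralizer ({g} : Set G)).index) := by
        rw [hr]
        simp only [Set.mem_insert_iff, Set.mem_singleton_iff] at he ⊢
        tauto
      obtain ⟨x, hx⟩ := hmem
      refine ⟨x, fun hc => ?_, hx⟩
      have h1 : (1 : ℕ) = e := (index_eq_one_iff.mpr hc).symm.trans hx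
      have : 1 < 2 * n * m := by nlinarith
      have : 1 < Fintype.card F * m := by nlinarith
      have : 1 < 2 * Fintype.card F * n := by nlinarith
      simp only [Set.mem_insert_iff, Set.mem_singleton_iff] at he
      rcases he with e' | e' | e' <;> omega
    refine ⟨p, n, m, hN, fun x hx => ?_, hgt _ (by simp), hgt _ (by simp), hgt _ (by simp)⟩
    have hmem : (C x).index ∈
        Set.range (fun g : G => (Subgroup.centralizer ({g} : Set G)).index) := ⟨x, rfl⟩
    rw [hr] at hmem
    simp only [Set.mem_insert_iff, Set.mem_singleton_iff] at hmem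
    rcases hmem with e | e | e | e | e
    · exact absurd (index_eq_one_iff.mp e) hx
    all_goals tauto
  obtain ⟨h1, h3⟩ := Cfsg.Agent.S2508.result hodd h7
  set q := Fintype.card F with hq
  rw [← h] at h1 h3
  rcases (show q % 4 = 1 ∨ q % 4 = 3 by omega) with h4 | h4
  · obtain ⟨j, hj⟩ : ∃ j, q = 4 * j + 1 := ⟨q / 4, by omega⟩
    refine key (2 * j) (2 * j + 1) ⟨hp, hp2, ⟨f, hf⟩, h7, ⟨j, by ring⟩, Or.inl ⟨by omega, rfl⟩⟩ ?_
    rw [h1 h4]
    have e1 : (q ^ 2 - 1) / 2 = 2 * (2 * j) * (2 * j + 1) := by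
      rw [show q ^ 2 = 2 * (2 * (2 * j) * (2 * j + 1)) + 1 by rw [hj]; ring]; omega
    have e2 : q * (q + 1) / 2 = q * (2 * j + 1) := by
      rw [show q * (q + 1) = q * (2 * j + 1) * 2 by rw [hj]; ring]; omega
    have e3 : q * (q - 1) = 2 * q * (2 * j) := by
      rw [show q - 1 = 4 * j by omega]; ring
    have e4 : q * (q + 1) = 2 * q * (2 * j + 1) := by
      rw [show q + 1 = 2 * (2 * j + 1) by omega]; ring
    rw [e1, e2, e3, e4]
  · obtain ⟨j, hj⟩ : ∃ j, q = 4 * j + 3 := ⟨q / 4, by omega⟩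
    refine key (2 * j + 2) (2 * j + 1) ⟨hp, hp2, ⟨f, hf⟩, h7, ⟨j + 1, by ring⟩,
      Or.inr ⟨by omega, rfl⟩⟩ ?_
    rw [h3 h4]
    have hq1 : q - 1 = 2 * (2 * j + 1) := by omega
    have e1 : (q ^ 2 - 1) / 2 = 2 * (2 * j + 2) * (2 * j + 1) := by
      rw [show q ^ 2 = 2 * (2 * (2 * j + 2) * (2 * j + 1)) + 1 by rw [hj]; ring]; omega
    have e2 : q * (q - 1) / 2 = q * (2 * j + 1) := by
      rw [hq1, show q * (2 * (2 * j + 1)) = q * (2 * j + 1) * 2 by ring]; omega
    have e3 : q * (q - 1) = 2 * q * (2 * j + 1) := by rw [hq1]; ring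
    have e4 : q * (q + 1) = 2 * q * (2 * j + 2) := by
      rw [show q + 1 = 2 * (2 * j + 2) by omega]; ring
    rw [e1, e2, e3, e4]

/-- The central quotient is `PSL(2, q)`. -/
theorem quot_iso_of_range {F : Type*} [Field F] [Fintype F]
    (hodd : ¬ 2 ∣ Fintype.card F) (h7 : 7 ≤ Fintype.card F) {G : Type*} [Group G] [Finite G]
    (h : Set.range (fun g : G => (Subgroup.centralizer ({g} : Set G)).index) =
      Set.range (fun g : (Matrix.ProjectiveSpecialLinearGroup (Fin 2) F) =>
        (Subgroup.centralizer ({g} : Set (Matrix.ProjectiveSpecialLinearGroup (Fin 2) F))).index)) :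
    Nonempty (G ⧸ Subgroup.center G ≃* Matrix.ProjectiveSpecialLinearGroup (Fin 2) F) := by
  obtain ⟨p, n, m, S⟩ := sizes_of_range hodd h7 h
  exact S.qdata.iso rfl

end CfsgLib.ClassPSL2
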